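import Cfsg.Agent.H762.AutPLB
import Cfsg.Agent.S1068

/-!
helper762 (S3263): what is used of the centralizer `C_q` of a 2-central involution of `²F₄(q)`.
-/

set_option autoImplicit false

namespace Cfsg.Agent.H762

open Cfsg.Lie
open Subgroup

/-- the used properties of the group `C_q`, `q = 2^(2m+1)` -/
structure CHyp (C : Type*) [Group C] (m : ℕ) : Prop where
  fin : Finite C
  two : ∃ a, Odd a ∧ Nat.card C = 2 ^ (12 * (2 * m + 1)) * a
  three : ¬ 3 ∣ Nat.card C
  closed : ∀ N : Subgroup C, N.Normal → IsPGroup 2 N → ¬ 2 ∣ N.index → False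
  perf : 1 ≤ m → _root_.commutator C = ⊤ ∧ ∃ Q : Subgroup C, Q.Normal ∧ IsPGroup 2 Q ∧ ∃ x ∈ Q, ∃ y, x * y ≠ y * x
  aut : m = 0 → ∀ δ : MulAut C, (∃ k, δ ^ 3 ^ k = 1) → δ = 1
  elem : m = 0 → ∃ A : Subgroup C, (∀ x ∈ A, x * x = 1) ∧ 16 ≤ Nat.card A

section

open Cfsg.Agent.SplitTwo Cfsg.Agent.SplitTwo.ZS Cfsg.Agent.TitsThree.RankTwoZ Cfsg.Agent.SplitTwo.RootSysZ
open Cfsg.Agent.KFacts.TwF4 Cfsg.Agent.KFacts.TwF4.Arc Cfsg.Agent.KFacts.TwF4.Irr
open Cfsg.Agent.KFacts.TwF4.Inv Cfsg.Agent.KFacts.TwF4.Layers Cfsg.Agent.CpAutTwF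

universe u

variable {F : Type*} [Field F] {σ : F →+* F} {G : Type u} [Group G] (S : Full σ G)

omit [Field F] in
theorem two_elems' [Zero F] [One F] (h1 : (0 : F) ≠ 1) (hq : Nat.card F = 2) (x : F) : x = 0 ∨ x = 1 := by
  have hfin : Finite F := Nat.finite_of_card_ne_zero (by rw [hq]; norm_num)
  classical
  have : Fintype F := Fintype.ofFinite F
  by_contra hcon
  push Not at hcon
  have h2 : ({0, 1, x} : Finset F).card = 3 := Finset.card_eq_three.2 ⟨0, 1, x, h1, hcon.1.symm, hcon.2.symm, rfl⟩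
  have h3 := Finset.card_le_univ ({0, 1, x} : Finset F)
  rw [h2, ← Nat.card_eq_fintype_card, hq] at h3
  omega

theorem two_elems (hq : Nat.card F = 2 ^ (2 * 0 + 1)) (x : F) : x = 0 ∨ x = 1 :=
  two_elems' zero_ne_one (by simpa using hq) x

theorem chyp_of [Finite F] [Finite G] (hR : S.R.p = 2) {m : ℕ} (hq : Nat.card F = 2 ^ (2 * m + 1))
    (hU : ∃ P : Sylow 2 G, (P : Subgroup G) = J S.XZ 1 8) {C : Type*} [Group C] (e : C ≃* ↥S.PL) : CHyp C m where
  fin := Finite.of_equiv _ e.toEquiv.symm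
  two := by
    obtain ⟨P, hP⟩ := hU
    have hfact : Fact (Nat.Prime 2) := ⟨Nat.prime_two⟩
    have h1 : Nat.card (J S.XZ 1 8) ∣ Nat.card S.PL := card_dvd_of_le (PL.U_le S)
    obtain ⟨a, ha⟩ := h1
    refine ⟨a, ?_, ?_⟩
    · rw [← Nat.not_even_iff_odd, even_iff_two_dvd]
      intro h2
      have h3 := P.not_dvd_index
      apply h3
      rw [hP]
      have h4 : (J S.XZ 1 8).relIndex S.PL ∣ (J S.XZ 1 8).index := relIndex_dvd_index_of_le (PL.U_le S)
      refine dvd_trans ?_ h4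
      have h5 := relIndex_mul_relIndex ⊥ (J S.XZ 1 8) S.PL bot_le (PL.U_le S)
      rw [relIndex_bot_left, relIndex_bot_left, ha] at h5
      rw [Nat.eq_of_mul_eq_mul_left Nat.card_pos h5]
      exact h2
    · rw [Nat.card_congr e.toEquiv, ha, PL.card_U S, hq, ← pow_mul]
      ring_nf
  three := by
    rw [Nat.card_congr e.toEquiv]
    exact PL.three_not_dvd S hR hq
  closed := by
    intro N hN h2 hi
    refine PL.not_closed S hU hR (N.map e.toMonoidHom) (hN.map _ e.surjective) (h2.map _) ?_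
    rwa [index_map_of_bijective e.bijective]
  perf := by
    intro hm
    have hF : ∃ c : Fˣ, c ≠ 1 := by
      have : Nontrivial Fˣ := by
        rw [← Finite.one_lt_card_iff_nontrivial, Nat.card_units, hq]
        have h1 : 2 ^ 3 ≤ 2 ^ (2 * m + 1) := Nat.pow_le_pow_right (by norm_num) (by omega)
        omega
      exact exists_ne 1
    have hperf := Perf.PL_perfect S hF
    have hcomm : _root_.commutator ↥S.PL = ⊤ := by
      apply Subgroup.map_injective (subtype_injective S.PL)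
      rw [map_subtype_commutator, hperf, ← MonoidHom.range_eq_map, range_subtype]
    constructor
    · apply Subgroup.map_injective (f := e.toMonoidHom) e.injective
      unfold _root_.commutator
      rw [map_commutator, Subgroup.map_top_of_surjective _ e.surjective]
      exact hcomm
    · have hQp : IsPGroup 2 S.Q := isPGroup_J S.zsys8 (two_X S hR) 7 1 7 (by norm_num) (by norm_num)
      refine ⟨(S.Q.subgroupOf S.PL).comap e.toMonoidHom, ?_, ?_, ?_⟩
      · have h1 : (S.Q.subgroupOf S.PL).Normal :=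
          ⟨fun x hx g => Perf.Q_norm S g.2 hx⟩
        exact h1.comap _
      · exact (hQp.comap_subtype).comap_of_injective _ e.injective
      · have ho : S.o 0 1 ∈ S.Q := o0_Q S 1
        have hoP : S.o 0 1 ∈ S.PL := Irr.Q_PL S ho
        refine ⟨e.symm ⟨_, hoP⟩, ?_, ?_⟩
        · show e (e.symm ⟨_, hoP⟩) ∈ S.Q.subgroupOf S.PL
          rw [e.apply_symm_apply]; exact ho
        · by_contra hcon
          push Not at hcon
          have h1 : S.o 0 1 ∈ S.Zc 2 := by
            refine S.center_PL fun x hx => ?_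
            have h2 := congrArg e (hcon (e.symm ⟨x, hx⟩))
            rw [map_mul, map_mul, e.apply_symm_apply, e.apply_symm_apply] at h2
            exact congrArg Subtype.val h2
          have h3 : S.o 0 1 ∈ S.XZ 4 := S.Zc_le 2 h1
          have h4 : S.o 0 1 ∈ S.XZ 1 := (mem_X1 S).2 ⟨1, rfl⟩
          have h5 := S.X_inf_near (i := 1) (j := 4) (by norm_num) (by norm_num) h4 h3
          exact one_ne_zero (S.o_eq_one h5)
  aut := by
    rintro rfl δ hδ
    exact AutPLB.aut_of_equiv (F := F) (two_elems hq) hR e hδ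
  elem := by
    rintro rfl
    have h01 := two_elems hq
    refine ⟨(S.Q2.subgroupOf S.PL).comap e.toMonoidHom, ?_, ?_⟩
    · intro x hx
      have h1 : (e x : G) ∈ S.Q2 := hx
      obtain ⟨u, s, z, t, w, h2⟩ := (mem_Q2 S).1 h1
      apply e.injective
      rw [map_mul, map_one]
      apply Subtype.ext
      show (e x : G) * (e x : G) = 1
      rw [← h2, q2_mul, char2 S, char2 S, char2 S, char2 S, char2 S, q2_zero]
    · have h1 : Nat.card ((S.Q2.subgroupOf S.PL).comap e.toMonoidHom) = Nat.card S.Q2 := by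
        have hle : S.Q2 ≤ S.PL := fun x hx => Irr.Q_PL S (Layers.Q2_le_Q S hx)
        rw [← Nat.card_congr (Subgroup.subgroupOfEquivOfLe hle).toEquiv]
        have h2 : ((S.Q2.subgroupOf S.PL).comap e.toMonoidHom).map e.toMonoidHom = S.Q2.subgroupOf S.PL :=
          Subgroup.map_comap_eq_self_of_surjective e.surjective _
        have h3 := Nat.card_congr (((S.Q2.subgroupOf S.PL).comap e.toMonoidHom).equivMapOfInjective e.toMonoidHom
          e.injective).toEquiv
        rw [h2] at h3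
        exact h3
      rw [h1, Card.card_Q2 S, hq]
      norm_num

end

/-! ### the centralizer in `²F₄(q)` -/

section inst

open Cfsg.Agent.SplitTwo Cfsg.Agent.SplitTwo.ZS Cfsg.Agent.TitsThree.RankTwoZ Cfsg.Agent.SplitTwo.RootSysZ
open Cfsg.Agent.KFacts.TwF4 Cfsg.Agent.KFacts.TwF4.Arc Cfsg.Agent.KFacts.TwF4.Inv

variable {K : Type*} [Field K] [Fintype K]

theorem chyp_twistedF4 (m : ℕ) (hK : Fintype.card K = 2 ^ (2 * m + 1))
    (U : Sylow 2 ↥(twistedF4 K (2 ^ m))) (z : ↥(twistedF4 K (2 ^ m))) (hz : orderOf z = 2)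
    (hzU : z ∈ (U : Subgroup ↥(twistedF4 K (2 ^ m))))
    (hzc : ∀ u ∈ (U : Subgroup ↥(twistedF4 K (2 ^ m))), u * z = z * u)
    {C : Type*} [Group C] (e : C ≃* ↥(centralizer ({z} : Set ↥(twistedF4 K (2 ^ m))))) : CHyp C m := by
  have hfact : Fact (Nat.Prime 2) := ⟨Nat.prime_two⟩
  have hchar := ChevalleyStructure.TwF4.Twisted.charP_two hK
  obtain ⟨φ, hφ⟩ := ChevalleyStructure.TwF4.TwistedFix.exists_rln hK
  let S := Inst.full hK hφ
  have hR : S.R.p = 2 := rfl
  have hq : Nat.card K = 2 ^ (2 * m + 1) := by rw [Nat.card_eq_fintype_card, hK]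
  have hfin : Finite ↥(twistedF4 K (2 ^ m)) := inferInstance
  have hUsyl : ∃ P : Sylow 2 ↥(twistedF4 K (2 ^ m)), (P : Subgroup ↥(twistedF4 K (2 ^ m))) = J S.XZ 1 8 := by
    have hp : IsPGroup 2 (J S.XZ 1 8) := isPGroup_J S.zsys8 (two_X S hR) 8 1 8 (by norm_num) (by norm_num)
    refine ⟨hp.toSylow ?_, rfl⟩
    intro h2
    have h1 := (J S.XZ 1 8).card_mul_index
    rw [PL.card_U S, hq, S1068.result hK, mul_assoc, mul_assoc, mul_assoc] at h1
    have h3 := Nat.eq_of_mul_eq_mul_left (by positivity) h1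
    rw [h3] at h2
    have hev : Even (2 ^ (2 * m + 1)) := (even_two).pow_of_ne_zero (by omega)
    have hpos : 1 ≤ 2 ^ (2 * m + 1) := Nat.one_le_two_pow
    have o1 : Odd (2 ^ (2 * m + 1) - 1) := Nat.Even.sub_odd hpos hev odd_one
    have o3 : Odd ((2 ^ (2 * m + 1)) ^ 3 + 1) := (hev.pow_of_ne_zero (by norm_num)).add_odd odd_one
    have o4 : Odd ((2 ^ (2 * m + 1)) ^ 4 - 1) :=
      Nat.Even.sub_odd (Nat.one_le_pow _ _ (by omega)) (hev.pow_of_ne_zero (by norm_num)) odd_one
    have o6 : Odd ((2 ^ (2 * m + 1)) ^ 6 + 1) := (hev.pow_of_ne_zero (by norm_num)).add_odd odd_one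
    have h4 := o1.mul (o3.mul (o4.mul o6))
    exact (Nat.not_even_iff_odd.2 h4) (even_iff_two_dvd.2 h2)
  obtain ⟨e'⟩ := PL.exists_equiv S hUsyl (z := z) (fun h => by rw [h, orderOf_one] at hz; omega) hzU hzc
  exact chyp_of S hR hq hUsyl (e.trans e')

end inst

end Cfsg.Agent.H762
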