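import Cfsg.Agent.H762.AutPL

/-!
helper762 (S3263): for `q = 2` every automorphism of 3-power order of `PL` is trivial.
-/

set_option autoImplicit false

namespace Cfsg.Agent.H762.AutPLB

open Cfsg.Agent.SplitTwo Cfsg.Agent.SplitTwo.ZS Cfsg.Agent.TitsThree.RankTwoZ Cfsg.Agent.SplitTwo.RootSysZ
open Cfsg.Agent.KFacts.TwF4 Cfsg.Agent.KFacts.TwF4.Arc Cfsg.Agent.KFacts.TwF4.Irr
open Cfsg.Agent.KFacts.TwF4.Inv Cfsg.Agent.KFacts.TwF4.Layers Cfsg.Agent.CpAutTwF Cfsg.Agent.H762.AutPL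
open Subgroup
open scoped Pointwise

universe u

variable {F : Type*} [Field F] {σ : F →+* F} {G : Type u} [Group G] {S : Full σ G}

section two

variable [Finite F] [Finite G] (h01 : ∀ x : F, x = 0 ∨ x = 1) (hR : S.R.p = 2)

open Classical in
include h01 hR in
theorem triv' {δ : MulAut ↥S.PL} {n : ℕ} (hn : Odd n) (hδ : δ ^ n = 1)
    (hU : ∀ x : ↥S.PL, (x : G) ∈ J S.XZ 1 8 → (δ x : G) ∈ J S.XZ 1 8)
    (hU' : ∀ x : ↥S.PL, (x : G) ∈ J S.XZ 0 7 → (δ x : G) ∈ J S.XZ 0 7) : δ = 1 := by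
  let d : G → G := fun x => if h : x ∈ S.PL then (δ ⟨x, h⟩ : G) else x
  have hd0 : ∀ x : ↥S.PL, d (x : G) = δ x := by
    intro x
    show (if h : (x : G) ∈ S.PL then (δ ⟨(x : G), h⟩ : G) else x) = _
    rw [dif_pos x.2]
  have hit : ∀ k (x : ↥S.PL), d^[k] (x : G) = (δ ^ k) x := by
    intro k
    induction k with
    | zero => intro x; rfl
    | succ k ih =>
      intro x
      rw [Function.iterate_succ_apply, hd0, ih, pow_succ]
      rfl
  have hd : DD S d :=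
    { mem := by
        intro x hx
        rw [show d x = _ from hd0 ⟨x, hx⟩]
        exact (δ ⟨x, hx⟩).2
      mul := by
        intro x y hx hy
        rw [show d x = _ from hd0 ⟨x, hx⟩, show d y = _ from hd0 ⟨y, hy⟩,
          show d (x * y) = _ from hd0 (⟨x, hx⟩ * ⟨y, hy⟩), map_mul]
        rfl
      fin := ⟨n, hn, fun x hx => by rw [hit n ⟨x, hx⟩, hδ]; rfl⟩ }
  ext x
  have h1 := triv h01 hR hd (fun x hx => by
      have hxP : x ∈ S.PL := J_mono (by norm_num) le_rfl hx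
      rw [show d x = _ from hd0 ⟨x, hxP⟩]; exact hU ⟨x, hxP⟩ hx) (fun x hx => by
      have hxP : x ∈ S.PL := J_mono le_rfl (by norm_num) hx
      rw [show d x = _ from hd0 ⟨x, hxP⟩]; exact hU' ⟨x, hxP⟩ hx) x.2
  rw [hd0] at h1
  exact h1

include h01 in
theorem T_bot : S.T = ⊥ := by
  rw [eq_bot_iff]
  intro g hg
  obtain ⟨c, d, rfl⟩ := S.mem_T.1 hg
  have h : ∀ c : Fˣ, c = 1 := by
    intro c
    rcases h01 c with h | h
    · exact absurd h c.ne_zero
    · exact Units.ext h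
  rw [h c, h d, S.h_one]
  exact one_mem _

include h01 in
theorem card_F : Nat.card F = 2 := by
  have h : Nat.card F = Nat.card Bool := by
    classical
    refine Nat.card_congr ⟨fun x => if x = 0 then false else true, fun b => if b then 1 else 0, ?_, ?_⟩
    · intro x
      rcases h01 x with rfl | rfl <;> simp
    · intro b
      cases b <;> simp
  rw [h, Nat.card_eq_fintype_card, Fintype.card_bool]

include h01 in
theorem BT_eq : S.PL ⊓ (J S.XZ 1 8 ⊔ S.T) = J S.XZ 1 8 := by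
  rw [T_bot h01, sup_bot_eq, inf_eq_right]
  exact PL.U_le S

include h01 in
theorem card_five : Nat.card S.PL = Nat.card (J S.XZ 1 8) * 5 := by
  rw [H127.TwFInv.card_PL S, BT_eq h01, card_F h01]

include h01 hR in
/-- **every automorphism of 3-power order of `PL` is trivial** -/
theorem aut_three {δ : MulAut ↥S.PL} (hδ : δ ^ 3 = 1) : δ = 1 := by
  classical
  have hfact : Fact (Nat.Prime 2) := ⟨Nat.prime_two⟩
  have hfact3 : Fact (Nat.Prime 3) := ⟨Nat.prime_three⟩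
  have hUle := PL.U_le S
  have hUp : IsPGroup 2 (J S.XZ 1 8) := isPGroup_J S.zsys8 (two_X S hR) 8 1 8 (by norm_num) (by norm_num)
  let U : Subgroup ↥S.PL := (J S.XZ 1 8).subgroupOf S.PL
  have hcU : Nat.card U = Nat.card (J S.XZ 1 8) := Nat.card_congr (Subgroup.subgroupOfEquivOfLe hUle).toEquiv
  have hUi : U.index = 5 := by
    have h1 := U.card_mul_index
    rw [card_five h01, hcU] at h1
    exact Nat.eq_of_mul_eq_mul_left Nat.card_pos h1
  have hUp' : IsPGroup 2 U := hUp.comap_subtype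
  let P : Sylow 2 ↥S.PL := hUp'.toSylow (by rw [hUi]; norm_num)
  have hPU : (P : Subgroup ↥S.PL) = U := rfl
  -- the number of Sylow subgroups
  have hnum : Nat.card (Sylow 2 ↥S.PL) = 5 := by
    have h1 : Nat.card (Sylow 2 ↥S.PL) ∣ 5 := by
      have h := P.card_dvd_index
      rwa [hPU, hUi] at h
    rcases (Nat.dvd_prime (by norm_num)).1 h1 with h2 | h2
    · exfalso
      have hss : Subsingleton (Sylow 2 ↥S.PL) := (Nat.card_eq_one_iff_unique.1 h2).1
      have h0p : IsPGroup 2 (S.XZ 0) := two_X S hR 0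
      obtain ⟨Q', hQ'⟩ := (h0p.comap_subtype (K := S.PL)).exists_le_sylow
      have h3 : Q' = P := Subsingleton.elim _ _
      have h7 : S.e 0 0 1 ∈ S.XZ 0 := (mem_X0 S).2 ⟨0, 1, rfl⟩
      have h8 : (⟨S.e 0 0 1, PL.X0_le S h7⟩ : ↥S.PL) ∈ (Q' : Subgroup ↥S.PL) := hQ' h7
      rw [h3] at h8
      have h9 : S.e 0 0 1 ∈ J S.XZ 1 8 := h8
      exact PL.e0_ne S (PL.X0_inf_U S h7 h9)
    · exact h2
  -- two fixed Sylow subgroups
  obtain ⟨A, B, hAB, hA, hB⟩ : ∃ A B : Sylow 2 ↥S.PL, A ≠ B ∧ δ • A = A ∧ δ • B = B := by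
    have h1 := Count.card_fix (X := Sylow 2 ↥S.PL) (p := 3) (fun A => δ • A) (by
      intro A
      show δ • (δ • (δ • A)) = A
      rw [smul_smul, smul_smul, ← pow_three', hδ, one_smul])
    rw [hnum] at h1
    have h2 : 2 ≤ Nat.card {A : Sylow 2 ↥S.PL // δ • A = A} := by
      by_contra hcon
      have h3 : Nat.card {A : Sylow 2 ↥S.PL // δ • A = A} < 2 := not_le.1 hcon
      unfold Nat.ModEq at h1
      interval_cases h4 : Nat.card {A : Sylow 2 ↥S.PL // δ • A = A} <;> omega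
    have h3 : 1 < Nat.card {A : Sylow 2 ↥S.PL // δ • A = A} := h2
    obtain ⟨a, b, hab⟩ := (Finite.one_lt_card_iff_nontrivial.1 h3).exists_pair_ne
    exact ⟨a.1, b.1, fun h => hab (Subtype.ext h), a.2, b.2⟩
  obtain ⟨g1, hg1⟩ := MulAction.exists_smul_eq ↥S.PL P A
  obtain ⟨g2, hg2⟩ := MulAction.exists_smul_eq ↥S.PL P B
  obtain ⟨m, hm, h1, h2⟩ := pair_PL S g1.2 g2.2
  rw [BT_eq h01] at h1 h2
  let μ : ↥S.PL := ⟨m, hm⟩
  let ν : ↥S.PL := ⟨S.n2, S.n2_mem⟩
  have hself : ∀ {g : ↥S.PL}, (g : G) ∈ J S.XZ 1 8 → g • P = P := by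
    intro g hg
    have h3 : g ∈ (P : Subgroup ↥S.PL) := hg
    exact Sylow.smul_eq_iff_mem_normalizer.2 (Subgroup.le_normalizer h3)
  have hmA : MulAut.conj μ • A = P := by
    rw [← Sylow.smul_def, ← hg1, smul_smul]
    exact hself h1
  have hmB : MulAut.conj μ • B = ν • P := by
    rw [← Sylow.smul_def, ← hg2, smul_smul]
    rcases h2 with h2 | ⟨x, hx, h2⟩
    · exfalso
      apply hAB
      have h3 : (μ * g2) • P = P := hself h2
      have h4 : (μ * g1) • P = P := hself h1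
      rw [mul_smul, hg2] at h3
      rw [mul_smul, hg1] at h4
      exact MulAction.injective μ (h4.trans h3.symm)
    · have hxP : x ∈ S.PL := X_le_J (by norm_num) (by norm_num) hx
      have h3 : μ * g2 = ν * ⟨x, hxP⟩ := Subtype.ext h2
      rw [h3, mul_smul, hself (g := ⟨x, hxP⟩) (X_le_J (by norm_num) (by norm_num) hx)]
  let δ' : MulAut ↥S.PL := MulAut.conj μ * δ * (MulAut.conj μ)⁻¹
  have hP : δ' • P = P := by
    show (MulAut.conj μ * δ * (MulAut.conj μ)⁻¹) • P = P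
    rw [mul_smul, mul_smul]
    nth_rewrite 1 [← hmA]
    rw [inv_smul_smul, hA, hmA]
  have hνP : δ' • (ν • P) = ν • P := by
    show (MulAut.conj μ * δ * (MulAut.conj μ)⁻¹) • (ν • P) = ν • P
    rw [mul_smul, mul_smul]
    nth_rewrite 1 [← hmB]
    rw [inv_smul_smul, hB, hmB]
  have hmem : ∀ {R : Sylow 2 ↥S.PL}, δ' • R = R → ∀ {x}, x ∈ (R : Subgroup ↥S.PL) → δ' x ∈ (R : Subgroup ↥S.PL) := by
    intro R hR x hx
    have h3 : δ' • x ∈ δ' • (R : Subgroup ↥S.PL) := Subgroup.smul_mem_pointwise_smul _ _ _ hx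
    rw [← Sylow.pointwise_smul_def, hR] at h3
    exact h3
  have hν : ∀ x : ↥S.PL, x ∈ ((ν • P : Sylow 2 ↥S.PL) : Subgroup ↥S.PL) ↔ (x : G) ∈ J S.XZ 0 7 := by
    intro x
    rw [Sylow.smul_def, Sylow.pointwise_smul_def, Subgroup.mem_pointwise_smul_iff_inv_smul_mem, ← map_inv]
    show (ν⁻¹ * x * ν⁻¹⁻¹ : ↥S.PL) ∈ (P : Subgroup ↥S.PL) ↔ _
    rw [inv_inv]
    show S.n2⁻¹ * (x : G) * S.n2 ∈ J S.XZ 1 8 ↔ _
    constructor
    · intro h3
      have h4 := S.n2_refl.mem_J h3 (a' := 0) (b' := 7) (by norm_num) (by norm_num)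
      have e : S.n2 * (S.n2⁻¹ * (x : G) * S.n2) * S.n2⁻¹ = x := by group
      rwa [e] at h4
    · intro h3
      exact S.n2_refl.mem_J_inv h3 (by norm_num) (by norm_num)
  have hδ' : δ' = 1 := by
    refine triv' h01 hR (n := 3) (by decide) ?_ ?_ ?_
    · show (MulAut.conj μ * δ * (MulAut.conj μ)⁻¹) ^ 3 = 1
      rw [conj_pow, hδ, mul_one, mul_inv_cancel]
    · intro x hx
      exact hmem hP (x := x) hx
    · intro x hx
      exact (hν _).1 (hmem hνP ((hν x).2 hx))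
  have h5 : MulAut.conj μ * δ * (MulAut.conj μ)⁻¹ = 1 := hδ'
  exact conj_eq_one_iff.1 h5

include h01 hR in
theorem aut_three_pow {δ : MulAut ↥S.PL} (hδ : ∃ k, δ ^ 3 ^ k = 1) : δ = 1 := by
  obtain ⟨k, hk⟩ := hδ
  induction k with
  | zero => simpa using hk
  | succ k ih =>
    apply ih
    rw [pow_succ 3 k, pow_mul] at hk
    exact aut_three h01 hR hk

include h01 hR in
/-- the same for groups isomorphic to `PL` -/
theorem aut_of_equiv {C : Type*} [Group C] (e : C ≃* ↥S.PL) {δ : MulAut C} (hδ : ∃ k, δ ^ 3 ^ k = 1) : δ = 1 := by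
  obtain ⟨k, hk⟩ := hδ
  have h1 : MulAut.congr e δ = 1 := by
    apply aut_three_pow h01 hR
    refine ⟨k, ?_⟩
    rw [← map_pow, hk, map_one]
  exact (MulEquiv.map_eq_one_iff _).1 h1

end two

end Cfsg.Agent.H762.AutPLB
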