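import Cfsg.Agent.CpAutTwF.FieldAut
import Cfsg.Agent.H127.TwFInv
import Cfsg.Agent.KFacts.TwF4.AutNorm
import Cfsg.Agent.S1068

/-!
helper762 (S3263): the centralizer `PL` of a 2-central involution of `²F₄(q)`, every `q = 2^(2m+1)`.

* `card_U` : `|U| = q¹²`;
* `three_not_dvd` : `3 ∤ |PL|`;
* `not_closed` : `PL` is not 2-closed;
* `exists_equiv` : the centralizer of a 2-central involution is isomorphic to `PL`.
-/

set_option autoImplicit false

namespace Cfsg.Agent.H762.PL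

open Cfsg.Agent.SplitTwo Cfsg.Agent.SplitTwo.ZS Cfsg.Agent.TitsThree.RankTwoZ Cfsg.Agent.SplitTwo.RootSysZ
open Cfsg.Agent.KFacts.TwF4 Cfsg.Agent.KFacts.TwF4.Arc Cfsg.Agent.KFacts.TwF4.Irr
open Cfsg.Agent.KFacts.TwF4.Inv Cfsg.Agent.CpAutTwF
open Subgroup

universe u

variable {F : Type*} [Field F] {σ : F →+* F} {G : Type u} [Group G] (S : Full σ G)

theorem card_Q : Nat.card S.Q = Nat.card F ^ 10 := by
  have c1 := Card.card_odd S 0
  have c2 := Card.card_even S 1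
  have c3 := Card.card_odd S 1
  have c4 := Card.card_even S 2
  have c5 := Card.card_odd S 2
  have c6 := Card.card_even S 3
  have c7 := Card.card_odd S 3
  norm_num at c1 c2 c3 c4 c5 c6 c7
  show Nat.card (J S.XZ 1 7) = _
  rw [Card.card_J_succ S (by norm_num) (by norm_num), c1, show (1 : ℤ) + 1 = 2 by norm_num,
    Card.card_J_succ S (by norm_num) (by norm_num), c2, show (2 : ℤ) + 1 = 3 by norm_num,
    Card.card_J_succ S (by norm_num) (by norm_num), c3, show (3 : ℤ) + 1 = 4 by norm_num,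
    Card.card_J_succ S (by norm_num) (by norm_num), c4, show (4 : ℤ) + 1 = 5 by norm_num,
    Card.card_J_succ S (by norm_num) (by norm_num), c5, show (5 : ℤ) + 1 = 6 by norm_num,
    Card.card_J_succ S (by norm_num) (by norm_num), c6, show (6 : ℤ) + 1 = 7 by norm_num,
    Card.card_J_succ S (by norm_num) (by norm_num), c7, show (7 : ℤ) + 1 = 8 by norm_num,
    Card.card_J_empty S (by norm_num)]
  ring

theorem card_U : Nat.card (J S.XZ 1 8) = Nat.card F ^ 12 := by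
  have h := Count.card_mul_of (A := S.Q) (B := S.XZ 8) (C := J S.XZ 1 8) (J_mono le_rfl (by norm_num))
    (X_le_J (by norm_num) le_rfl) (fun c hc => by
      obtain ⟨p, hp, q, hq, h⟩ := S.zsys8.split_rr (a := 1) (b := 8) (by norm_num) (by norm_num) hc
      exact ⟨p, hp, q, hq, h⟩) (fun x hx hx' => by
      exact S.zsys8.inter' (k := 8) hx' hx)
  have c8 := Card.card_even S 4
  norm_num at c8
  rw [h, card_Q S, c8]
  ring

theorem U_le : J S.XZ 1 8 ≤ S.PL := J_mono (by norm_num) le_rfl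

theorem X0_le : S.XZ 0 ≤ S.PL := X_le_J (by norm_num) (by norm_num)

theorem X0_inf_U {x : G} (hx : x ∈ S.XZ 0) (h : x ∈ J S.XZ 1 8) : x = 1 :=
  H127.TwFInv.X0_inf_BT S hx (mem_sup_left h)

theorem e0_ne : S.e 0 0 1 ≠ 1 := fun h => one_ne_zero (S.e_eq_one h).2

section fin

variable [Finite F] [Finite G]

/-- `|PL|` is prime to three -/
theorem three_not_dvd (hR : S.R.p = 2) {m : ℕ} (hq : Nat.card F = 2 ^ (2 * m + 1)) : ¬ 3 ∣ Nat.card S.PL := by
  intro h
  rw [H127.TwFInv.card_PL S] at h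
  have hq3 : Nat.card F % 3 = 2 := by
    rw [hq, pow_succ, pow_mul, Nat.mul_mod, Nat.pow_mod]
    norm_num
  rcases (Nat.Prime.dvd_mul Nat.prime_three).1 h with h1 | h1
  · have h2 : Nat.card (S.PL ⊓ (J S.XZ 1 8 ⊔ S.T) : Subgroup G) ∣ Nat.card (J S.XZ 1 8 ⊔ S.T : Subgroup G) :=
      card_dvd_of_le inf_le_right
    have h3 := H127.TwFInv.prime_BT S hR Nat.prime_three (by norm_num) (h1.trans h2)
    omega
  · have h2 : (1 + Nat.card F * Nat.card F) % 3 = 2 := by
      rw [Nat.add_mod, Nat.mul_mod, hq3]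
    omega

/-- `PL` is not 2-closed -/
theorem not_closed (hU : ∃ P : Sylow 2 G, (P : Subgroup G) = J S.XZ 1 8) (hR : S.R.p = 2) (N : Subgroup ↥S.PL)
    (hN : N.Normal) (h2 : IsPGroup 2 N) (hi : ¬ 2 ∣ N.index) : False := by
  have hfact : Fact (Nat.Prime 2) := ⟨Nat.prime_two⟩
  obtain ⟨P, hP⟩ := hU
  -- `N` is the Sylow subgroup
  let P' : Sylow 2 ↥S.PL := h2.toSylow hi
  have hall : ∀ K : Subgroup ↥S.PL, IsPGroup 2 K → K ≤ N := by
    intro K hK
    obtain ⟨Q, hQ⟩ := hK.exists_le_sylow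
    have hP'n : (P' : Subgroup ↥S.PL).Normal := hN
    let hu : Unique (Sylow 2 ↥S.PL) := Sylow.unique_of_normal P' hP'n
    have h3 : Q = P' := Subsingleton.elim _ _
    rw [h3] at hQ
    exact hQ
  have hUp : IsPGroup 2 (J S.XZ 1 8) := isPGroup_J S.zsys8 (two_X S hR) 8 1 8 (by norm_num) (by norm_num)
  have h0p : IsPGroup 2 (S.XZ 0) := two_X S hR 0
  have h3 : (J S.XZ 1 8).subgroupOf S.PL ≤ N := hall _ (hUp.comap_subtype)
  have h4 : (S.XZ 0).subgroupOf S.PL ≤ N := hall _ (h0p.comap_subtype)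
  -- `N` maps into a Sylow subgroup containing `U`, so `N = U`
  have h5 : J S.XZ 1 8 ≤ N.map S.PL.subtype := by
    intro x hx
    exact ⟨⟨x, U_le S hx⟩, h3 hx, rfl⟩
  have h6 : N.map S.PL.subtype = (P : Subgroup G) := P.3 (h2.map _) (by rw [hP]; exact h5)
  have h7 : S.e 0 0 1 ∈ S.XZ 0 := (mem_X0 S).2 ⟨0, 1, rfl⟩
  have h8 : S.e 0 0 1 ∈ N.map S.PL.subtype := ⟨⟨_, X0_le S h7⟩, h4 h7, rfl⟩
  rw [h6, hP] at h8
  exact e0_ne S (X0_inf_U S h7 h8)

/-- the centralizer of a 2-central involution -/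
theorem exists_equiv (hU : ∃ P : Sylow 2 G, (P : Subgroup G) = J S.XZ 1 8) {z : G} (hz1 : z ≠ 1) {P : Sylow 2 G}
    (hzP : z ∈ (P : Subgroup G)) (hzc : ∀ u ∈ (P : Subgroup G), u * z = z * u) :
    Nonempty (↥(centralizer ({z} : Set G)) ≃* ↥S.PL) := by
  have hfact : Fact (Nat.Prime 2) := ⟨Nat.prime_two⟩
  obtain ⟨P0, hP0⟩ := hU
  obtain ⟨g, hg⟩ := MulAction.exists_smul_eq G P P0
  have hmem : ∀ x, x ∈ (P0 : Subgroup G) ↔ g⁻¹ * x * g ∈ (P : Subgroup G) := by
    intro x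
    rw [← hg, Sylow.coe_subgroup_smul, Subgroup.mem_pointwise_smul_iff_inv_smul_mem]
    rw [← map_inv]
    show (MulAut.conj g⁻¹) x ∈ _ ↔ _
    rw [MulAut.conj_apply, inv_inv]
  have hz' : g * z * g⁻¹ ∈ S.Zc 2 := by
    rw [AutNorm.mem_Zc_iff]
    refine ⟨?_, fun u hu => ?_⟩
    · rw [← hP0, hmem]
      have e : g⁻¹ * (g * z * g⁻¹) * g = z := by group
      rwa [e]
    · rw [← hP0, hmem] at hu
      have h1 := hzc _ hu
      calc g * z * g⁻¹ * u = g * (z * (g⁻¹ * u * g)) * g⁻¹ := by group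
        _ = g * ((g⁻¹ * u * g) * z) * g⁻¹ := by rw [h1]
        _ = u * (g * z * g⁻¹) := by group
  have hz1' : g * z * g⁻¹ ≠ 1 := by
    intro h
    apply hz1
    have e : z = g⁻¹ * (g * z * g⁻¹) * g := by group
    rw [e, h]; group
  have hc := S.centralizer_z hz' hz1'
  have h1 : (centralizer ({z} : Set G)).map (MulAut.conj g).toMonoidHom = S.PL := by
    rw [← hc]
    ext x
    rw [Subgroup.mem_map_equiv, mem_centralizer_singleton_iff, mem_centralizer_singleton_iff]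
    show ((MulAut.conj g)⁻¹ x) * z = z * ((MulAut.conj g)⁻¹ x) ↔ _
    rw [← map_inv, MulAut.conj_apply, inv_inv]
    constructor
    · intro h
      calc x * (g * z * g⁻¹) = g * ((g⁻¹ * x * g) * z) * g⁻¹ := by group
        _ = g * (z * (g⁻¹ * x * g)) * g⁻¹ := by rw [h]
        _ = g * z * g⁻¹ * x := by group
    · intro h
      calc g⁻¹ * x * g * z = g⁻¹ * (x * (g * z * g⁻¹)) * g := by group
        _ = g⁻¹ * (g * z * g⁻¹ * x) * g := by rw [h]
        _ = z * (g⁻¹ * x * g) := by group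
  exact ⟨((MulAut.conj g).subgroupMap _).trans (MulEquiv.subgroupCongr h1)⟩

end fin

end Cfsg.Agent.H762.PL
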