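import Cfsg.Agent.H698.FinePR
import Cfsg.Agent.H92.KTools
import Cfsg.Agent.H57.TTOut

/-!
helper762 (market task 768, for S4881): tools for the numerical condition `Fine`.
-/

set_option autoImplicit false

namespace Cfsg.Agent.H762.FineTools

open Cfsg Cfsg.Agent.H698 Cfsg.Agent.H92.KTools

universe u v w

section

variable {T : Type u} [Group T]

theorem center_bot [IsSimpleGroup T] (hna : ¬ IsMulCommutative T) : Subgroup.center T = ⊥ := by
  rcases (inferInstance : (Subgroup.center T).Normal).eq_bot_or_eq_top with h | h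
  · exact h
  · exfalso
    apply hna
    refine ⟨⟨fun a b => ?_⟩⟩
    have h1 : b ∈ Subgroup.center T := by rw [h]; trivial
    exact Subgroup.mem_center_iff.1 h1 a

open scoped commutatorElement in
theorem isPerfect [IsSimpleGroup T] (hna : ¬ IsMulCommutative T) : Group.IsPerfect T := by
  refine ⟨?_⟩
  rcases (inferInstance : (commutator T).Normal).eq_bot_or_eq_top with h1 | h1
  · exfalso
    apply hna
    refine ⟨⟨fun a b => ?_⟩⟩
    have h2 : ⁅a, b⁆ ∈ commutator T := Subgroup.commutator_mem_commutator (Subgroup.mem_top _) (Subgroup.mem_top _)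
    rw [h1, Subgroup.mem_bot, commutatorElement_eq_one_iff_mul_comm] at h2
    exact h2
  · exact h1

theorem conj_injective (hc : Subgroup.center T = ⊥) : Function.Injective (MulAut.conj : T →* MulAut T) := by
  rw [injective_iff_map_eq_one]
  intro a ha
  have h1 : a ∈ Subgroup.center T := by
    rw [Subgroup.mem_center_iff]
    intro x
    have h2 : a * x * a⁻¹ = x := DFunLike.congr_fun ha x
    calc x * a = (a * x * a⁻¹) * a := by rw [h2]
      _ = a * x := by group
  rwa [hc, Subgroup.mem_bot] at h1

/-- element orders of `T` bound the number of classes of `X`, `Inn T ≤ X ≤ Aut T` -/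
theorem classes_of_orders [Finite T] (hc : Subgroup.center T = ⊥) (s : Finset ℕ) (hs : ∀ n ∈ s, HasOrd T n)
    (X : Subgroup (MulAut T)) (hX : (MulAut.conj : T →* MulAut T).range ≤ X) : s.card ≤ Nat.card (ConjClasses X) := by
  let f : T →* X := (MulAut.conj : T →* MulAut T).codRestrict X (fun t => hX ⟨t, rfl⟩)
  have hf : Function.Injective f := fun a b h => conj_injective hc (congrArg Subtype.val h)
  exact orders_le (G := X) s fun n hn => (hs n hn).of_injective f hf

theorem card_aut [Finite T] [IsSimpleGroup T] (hna : ¬ IsMulCommutative T) :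
    Nat.card (MulAut T) = Nat.card T * Nat.card (Cfsg.Out T) := H57.TTOut.card_mulAut (center_bot hna)

theorem one_lt [Finite T] [IsSimpleGroup T] : 1 < Nat.card T := by
  have h : Nontrivial T := inferInstance
  exact Finite.one_lt_card

theorem not_comm [Finite T] [IsSimpleGroup T] (h : ¬ (Nat.card T).Prime) : ¬ IsMulCommutative T := by
  intro hc
  apply h
  letI : CommGroup T := { (inferInstance : Group T) with mul_comm := hc.is_comm.comm }
  exact IsSimpleGroup.prime_card

/-- a degree bound `d + 1` and `|Aut T| ≤ 11 ^ d` -/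
theorem of_LS [Finite T] [IsSimpleGroup T] (hna : ¬ IsMulCommutative T) {r d : ℕ} (hr : r.Prime)
    (hrT : r ∣ Nat.card T) (hLS : H203.LS.LS.{u, w, w} r (d + 1) T)
    (h : Nat.card T * Nat.card (Cfsg.Out T) ≤ 11 ^ d) : Fine.{u, w} T := by
  refine Fine.of_eleven (center_bot hna) one_lt (d := d) (fun p m hp h11 hpT hm hR => ?_) (by rwa [card_aut hna])
  exact Rep.le_of_LS hp hr hrT hpT hR hLS

end

/-! ### arithmetic -/

theorem pow_six (n : ℕ) (hn : 8 ≤ n) : n ^ 6 ≤ 11 ^ (n - 2) := by
  induction n, hn using Nat.le_induction with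
  | base => norm_num
  | succ n hn ih =>
    have e : n + 1 - 2 = n - 2 + 1 := by omega
    rw [e, pow_succ 11]
    have h1 : (n + 1) ^ 6 ≤ 11 * n ^ 6 := by
      obtain ⟨k, rfl⟩ := Nat.exists_eq_add_of_le hn
      ring_nf
      nlinarith [sq_nonneg k, pow_nonneg (Nat.zero_le k) 3]
    omega

end Cfsg.Agent.H762.FineTools
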