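import Cfsg.Agent.H762.FineExcA
import Cfsg.Agent.H762.FineExcB
import Cfsg.Agent.H831.RepLift
import Cfsg.Agent.SmallSimple.PSLTwoPart

/-!
helper762 (market task 768, for S4881): `Fine` for the exceptional groups `G₂`, `³D₄`, `Sz`, `²G₂`, `²F₄`, Tits.
-/

set_option autoImplicit false

namespace Cfsg.Agent.H762.FineExc

open Cfsg Cfsg.Agent.H698 Cfsg.Agent.H762.FineTools

universe u

theorem fine_g2 {T : Type u} [Group T] [Finite T] (h : Lie.IsoChevG2 T) : Fine.{u, u} T := by
  obtain ⟨F, _, _, h3, ⟨e⟩⟩ := h
  rcases Nat.lt_or_ge (Fintype.card F) 5 with h5 | h5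
  · have h34 : Fintype.card F = 3 ∨ Fintype.card F = 4 := by omega
    rcases h34 with hF | hF
    · exact (fine_g2_three hF).congr e.symm
    · refine (fine_g2_four hF fun p m hp h11 hpT hm hR => ?_).congr e.symm
      have hT : Nat.card T = 251596800 := by
        rw [Nat.card_congr e.toEquiv, S1059.result hF]; norm_num
      have hs : IsSimpleGroup T := by
        have := (S1055.result (F := F) (by
          classical
          by_contra hcon
          push Not at hcon
          have h1 : (Finset.univ : Finset F) ⊆ {0, 1} := by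
            intro x _
            simp only [Finset.mem_insert, Finset.mem_singleton]
            by_cases hx : x = 0
            · exact Or.inl hx
            · exact Or.inr (hcon x hx)
          have h2 := Finset.card_le_card h1
          have h3 : ({0, 1} : Finset F).card ≤ 2 := Finset.card_le_two
          rw [Finset.card_univ] at h2
          omega)).1
        exact e.isSimpleGroup
      have hna : ¬ IsMulCommutative T := not_comm (by rw [hT]; norm_num)
      obtain ⟨h1, h2⟩ := H831.RepLift.prime_le hna hp (hR.congr e.symm) (s := 13) (by norm_num) (by rw [hT]; norm_num)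
      by_contra hlt
      have hm6 : m = 6 := by omega
      obtain ⟨e'⟩ := h2 (by omega) (by rw [hT]; norm_num)
      have h13 : Fact (Nat.Prime 13) := ⟨by norm_num⟩
      have hc := SmallSimple.PSLTwoPart.card_psl_two_odd (F := ZMod 13) (by rw [ZMod.card]; decide)
      rw [← Nat.card_congr e'.toEquiv, hT, ZMod.card] at hc
      norm_num at hc
  · exact (fine_g2_big h5).congr e.symm

theorem fine_exc1 {T : Type u} [Group T] [Finite T] (h : Lie.IsoChevG2 T ∨ Lie.Iso3D4 T ∨ Lie.IsoSuzuki T ∨
    Lie.IsoRee T ∨ Lie.Iso2F4 T ∨ Lie.IsoTits T) : Fine.{u, u} T := by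
  rcases h with h | h | h | h | h | h
  · exact fine_g2 h
  · obtain ⟨K, _, _, q, hq, hK, ⟨e⟩⟩ := h
    exact (fine_3d4 hq hK).congr e.symm
  · obtain ⟨K, _, _, m, hm, hK, ⟨e⟩⟩ := h
    exact (fine_sz hm hK).congr e.symm
  · obtain ⟨K, _, _, m, hm, hK, ⟨e⟩⟩ := h
    exact (fine_ree hm hK).congr e.symm
  · obtain ⟨K, _, _, m, hm, hK, ⟨e⟩⟩ := h
    exact (fine_2f4 hm hK).congr e.symm
  · exact fine_tits h

end Cfsg.Agent.H762.FineExc
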