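import Cfsg.Agent.Nodes.HasRGD

/-!
helper762 (S3263): root group data of characteristic two whose nodes contain an element of order three.

* `HasThree G` : `G` has a root group datum of characteristic two such that every fundamental root group contains an
  involution `a` with `n a n⁻¹ = a n a`;
* `cube_of_node` : then `(a · n a n⁻¹)³ = 1`.
-/

set_option autoImplicit false

namespace Cfsg.Agent.H762

open CoxeterSystem Cfsg.Agent.ChevalleyStructure.CoxeterGeom Cfsg.Agent.Tits.Roots Cfsg.Agent.Tits.Core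
  Cfsg.Agent.Tits.RootComb Cfsg.Agent.Nodes.Comb Cfsg.Agent.Nodes.Reps Cfsg.Agent.Nodes.BNOf

/-- every fundamental root group contains an involution `a` with `n a n⁻¹ = a n a` -/
def NodeThree {G : Type*} [Group G] {I : Type*} [DecidableEq I] (n : I → G) (X : (I → ℤ) → Subgroup G) : Prop :=
  ∀ i, ∃ a ∈ X (sr i), a * a = 1 ∧ a ≠ 1 ∧ n i * a * (n i)⁻¹ = a * n i * a

/-- a root group datum of characteristic two whose root groups generate, with `NodeThree` -/
def HasThree (G : Type*) [Group G] : Prop :=
  ∃ (l : ℕ) (M : CoxeterMatrix (Fin l)) (A : Fin l → Fin l → ℤ) (h : IsCartan M A) (T : Subgroup G) (n : Fin l → G)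
    (X : (Fin l → ℤ) → Subgroup G), Finite M.Group ∧ RGD M.toCoxeterSystem h 2 T n X ∧
      Nodes.RGDLib.G1 M.toCoxeterSystem h X = ⊤ ∧ NodeThree n X

theorem HasThree.of_equiv {G H : Type*} [Group G] [Group H] (e : G ≃* H) (hG : HasThree G) : HasThree H := by
  obtain ⟨l, M, A, h, T, n, X, hW, R, hX, h3⟩ := hG
  refine ⟨l, M, A, h, T.map e.toMonoidHom, fun i => e (n i), fun x => (X x).map e.toMonoidHom, hW,
    Nodes.RGDLib.rgd_map_of_injective R e.toMonoidHom e.injective, ?_, fun i => ?_⟩
  · have h1 : (Nodes.RGDLib.G1 M.toCoxeterSystem h X).map e.toMonoidHom =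
        Nodes.RGDLib.G1 M.toCoxeterSystem h (fun x => (X x).map e.toMonoidHom) := by
      unfold Nodes.RGDLib.G1 RGD.Sup
      rw [Subgroup.map_iSup]
    rw [← h1, hX, Subgroup.map_top_of_surjective _ e.surjective]
  · obtain ⟨a, ha, h2, h1, h4⟩ := h3 i
    refine ⟨e a, Subgroup.mem_map_of_mem _ ha, by rw [← map_mul, h2, map_one],
      fun h => h1 (e.injective (by rw [h, map_one])), ?_⟩
    rw [← map_inv, ← map_mul, ← map_mul, ← map_mul, ← map_mul, h4]

/-- an involution `a` with `n a n⁻¹ = a n a` gives an element of order three -/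
theorem cube_of_node {G : Type*} [Group G] {a n : G} (h2 : a * a = 1) (h : n * a * n⁻¹ = a * n * a) :
    a * (n * a * n⁻¹) * (a * (n * a * n⁻¹)) * (a * (n * a * n⁻¹)) = 1 := by
  set b := n * a * n⁻¹ with hb
  have hbb : b * b = 1 := by
    rw [hb]
    calc n * a * n⁻¹ * (n * a * n⁻¹) = n * (a * a) * n⁻¹ := by group
      _ = 1 := by rw [h2, mul_one, mul_inv_cancel]
  -- `n = a b a`
  have hn : n = a * b * a := by
    rw [h]
    calc n = (a * a) * n * (a * a) := by rw [h2, one_mul, mul_one]
      _ = a * (a * n * a) * a := by group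
  have hn1 : n⁻¹ = a * b * a := by
    rw [inv_eq_iff_mul_eq_one]
    nth_rewrite 1 [hn]
    calc a * b * a * (a * b * a) = a * b * (a * a) * b * a := by group
      _ = 1 := by rw [h2, mul_one, mul_assoc a b b, hbb, mul_one, h2]
  have h3 : b = a * b * a * b * a := by
    have h4 : b = n * a * n⁻¹ := rfl
    rw [hn1] at h4
    nth_rewrite 1 [hn] at h4
    calc b = a * b * a * a * (a * b * a) := h4
      _ = a * b * (a * a) * a * b * a := by group
      _ = a * b * a * b * a := by rw [h2, mul_one]
  calc a * b * (a * b) * (a * b) = (a * b * a * b * a) * b := by group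
    _ = 1 := by rw [← h3, hbb]

end Cfsg.Agent.H762
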