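import Cfsg.Agent.H888.C6.Over
import Cfsg.Agent.H377.Types

/-!
# Orbits of characters in minus type (helper762), for S5651
-/

set_option autoImplicit false
set_option linter.unusedSectionVars false

namespace Cfsg.Agent.H762.C6

open Cfsg Cfsg.Geo Matrix Cfsg.Agent.ClassicalGeometry.SympBasic Cfsg.Agent.H920 Cfsg.Agent.H888.C6

variable {ι : Type} [Fintype ι] [DecidableEq ι] {F : Type*} [Field F] {R : Subgroup (GL ι F)} {k : ℕ}
variable {C : Coord R 2 k} {q : V2 k → ZMod 2} {Y : Subgroup (GL ι F)}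

/-- the sign as a complex character -/
theorem exists_psi : ∃ ψ : AddChar (ZMod 2) ℂ, ψ ≠ 1 ∧ ∀ x, ψ x = (sg x : ℂ) := by
  obtain ⟨ψ, hψ⟩ := Cfsg.Agent.H377.exists_addChar (ZMod 2)
  refine ⟨ψ, hψ, fun x => ?_⟩
  have h0 : ψ 0 = 1 := AddChar.map_zero_eq_one _
  rcases z2 x with rfl | rfl
  · rw [h0]; simp [sg]
  · have h1 : ψ 1 * ψ 1 = 1 := by
      rw [← AddChar.map_add_eq_mul, z2_two, h0]
    rcases mul_self_eq_one_iff.1 h1 with h | h
    · exfalso
      apply hψ
      ext x
      rcases z2 x with rfl | rfl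
      · rw [h0]; rfl
      · rw [h]; rfl
    · rw [h]; simp [sg]

/-- the Gauss sum in minus type -/
theorem gauss_minus (hq : IsQ q) (hk : 1 ≤ k) (hno : ¬ ∃ j : (Fin k ⊕ Fin k → ZMod 2) ≃ₗ[ZMod 2] V2 k,
    ∀ v, q (j v) = quadFormPlus k (ZMod 2) v) : ∑ v : V2 k, sg (q v) = - 2 ^ k := by
  classical
  have hone : ∀ c : ZMod 2, c ≠ 0 → c = 1 := by decide
  have hrank : Module.finrank (ZMod 2) (V2 k) = 2 * k := by
    rw [Module.finrank_fintype_fun_eq_card, Fintype.card_sum, Fintype.card_fin]; ring
  rcases Cfsg.Agent.GenOrth.normal_form (2 * k) hq.nondeg_form hrank with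
    ⟨m, hm, -⟩ | ⟨m, hm, c, hc, j, hj⟩ | ⟨m, hm, a, b, hab, c, hc, j, hj⟩
  · omega
  · obtain rfl : m = k := by omega
    exact absurd ⟨j, fun v => by
      have := hj v
      rw [hone c hc, one_mul] at this
      exact this⟩ hno
  · have h1 := Cfsg.Agent.H377.hasSign_quadFormMinus (F := ZMod 2) m (a := a) (b := b) hab
    obtain ⟨ψ, hψ, hψ'⟩ := exists_psi
    have h2 := (h1.congr (Q' := q) j.toEquiv (fun v => by
      have := hj v
      rw [hone c hc, one_mul] at this
      exact this)) ψ hψ
    rw [Cfsg.Agent.H377.gs_eq] at h2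
    have h3 : ((∑ v : V2 k, sg (q v) : ℤ) : ℂ) = ((- 2 ^ k : ℤ) : ℂ) := by
      push_cast
      simp only [hψ'] at h2
      rw [h2]
      have h4 : m + 1 = k := by omega
      rw [h4, Nat.card_zmod]
      push_cast
      ring
    exact_mod_cast h3

/-- minus type has no totally singular subspace of dimension `k` -/
theorem not_plus [Finite F] [Nonempty ι] (T : TC C q) (hk : 1 ≤ k) (hminus : Cfsg.Geo.IsOfMinusType k R) :
    ¬ ∃ j : (Fin k ⊕ Fin k → ZMod 2) ≃ₗ[ZMod 2] V2 k, ∀ v, q (j v) = quadFormPlus k (ZMod 2) v := by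
  classical
  rintro ⟨j, hj⟩
  have hq := T.isQ
  -- the subspace
  let f : (Fin k → ZMod 2) → V2 k := fun x => j (Sum.elim x 0)
  have hf : ∀ x, q (f x) = 0 := by
    intro x
    change q (j _) = 0
    rw [hj]
    simp [quadFormPlus]
  have hfadd : ∀ x y, f (x + y) = f x + f y := by
    intro x y
    change j _ = j _ + j _
    rw [← map_add]
    congr 1
    funext i
    rcases i with i | i <;> simp
  have hfinj : Function.Injective f := by
    intro x y hxy
    have h1 := j.injective hxy
    funext i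
    exact congrFun h1 (Sum.inl i)
  have hf0 : f 0 = 0 := by
    have := hfadd 0 0
    rw [add_zero] at this
    exact (left_eq_add.1 this)
  have hbf : ∀ x y, bf (f x) (f y) = 0 := by
    intro x y
    have h1 := hq.add (f x) (f y)
    rw [← hfadd, hf, hf, hf, zero_add, zero_add] at h1
    exact h1.symm
  obtain ⟨z, hz⟩ : ∃ z : R, ((z : GL ι F) : Matrix ι ι F) = -1 := by
    obtain ⟨z, hz⟩ := C.exists_scalar hk 1
    rw [chi_eq, sF_one, neg_smul, one_smul] at hz
    exact ⟨z, hz⟩
  have hz1 : z ≠ 1 := by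
    rintro rfl
    have h1 : (1 : Matrix ι ι F) = -1 := hz
    obtain ⟨i⟩ := ‹Nonempty ι›
    have h3 := congrFun (congrFun h1 i) i
    rw [Matrix.neg_apply, Matrix.one_apply_eq] at h3
    exact neg_one_ne T.two h3.symm
  have hφz : C.φ z = 0 := by
    rw [C.ker_iff, mem_scalars_iff]
    exact ⟨-1, by rw [Units.val_neg, Units.val_one, neg_smul, one_smul]; exact hz⟩
  let A : Subgroup R :=
    { carrier := {x | ∃ v, C.φ x = f v}
      mul_mem' := by
        rintro x y ⟨v, hv⟩ ⟨w, hw⟩
        exact ⟨v + w, by rw [C.map_mul, hv, hw, hfadd]⟩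
      one_mem' := ⟨0, by
        have := C.map_mul 1 1
        rw [mul_one] at this
        rw [hf0]
        exact (left_eq_add.1 this)⟩
      inv_mem' := by
        rintro x ⟨v, hv⟩
        exact ⟨v, by rw [φ_neg_eq, hv]⟩ }
  have h1 := hminus A ⟨⟨fun x y => by
      obtain ⟨v, hv⟩ := x.2
      obtain ⟨w, hw⟩ := y.2
      apply Subtype.ext
      apply Subtype.ext
      apply Units.ext
      have := comm_sF C (x : R) (y : R)
      rw [hv, hw, hbf, sF_zero, one_smul] at this
      exact this⟩⟩ (by
      rintro x ⟨v, hv⟩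
      apply Subtype.ext
      apply Units.ext
      have := T.sqs x
      rw [hv, hf, sF_zero, one_smul] at this
      exact this)
  have hlift : ∀ v, ∃ x : R, C.φ x = f v := fun v => C.surj _
  choose l hl using hlift
  have h2 : Nat.card ((Fin k → ZMod 2) × Bool) ≤ Nat.card A := by
    apply Nat.card_le_card_of_injective (fun p => (⟨l p.1 * (if p.2 then z else 1), p.1, by
      rw [C.map_mul, hl]
      split_ifs
      · rw [hφz, add_zero]
      · have := C.map_mul 1 1
        rw [mul_one] at this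
        rw [(left_eq_add.1 this), add_zero]⟩ : A))
    rintro ⟨v, i⟩ ⟨w, j'⟩ hvw
    have h3 : l v * (if i then z else 1) = l w * (if j' then z else 1) := congrArg Subtype.val hvw
    have hφ1 : C.φ 1 = 0 := by
      have := C.map_mul 1 1
      rw [mul_one] at this
      exact (left_eq_add.1 this)
    have h4 : f v = f w := by
      have h5 := congrArg C.φ h3
      rw [C.map_mul, C.map_mul, hl, hl] at h5
      cases i <;> cases j' <;> simpa [hφz, hφ1] using h5
    have h5 := hfinj h4
    subst h5
    have h6 := mul_left_cancel h3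
    cases i <;> cases j'
    · rfl
    · exact absurd (by simpa using h6.symm) hz1
    · exact absurd (by simpa using h6) hz1
    · rfl
  rw [Nat.card_prod, Nat.card_eq_fintype_card, Nat.card_eq_fintype_card, Fintype.card_fun, ZMod.card, Fintype.card_fin,
    Fintype.card_bool, ← pow_succ] at h2
  omega

end Cfsg.Agent.H762.C6
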