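import Cfsg.Agent.H762.C6Minus

/-!
# Orbits of characters in minus type (helper762), for S5651
-/

set_option autoImplicit false
set_option linter.unusedSectionVars false

namespace Cfsg.Agent.H762.C6

open Cfsg Cfsg.Geo Matrix Cfsg.Agent.ClassicalGeometry.SympBasic Cfsg.Agent.H920 Cfsg.Agent.H888.C6

variable {ι : Type} [Fintype ι] [DecidableEq ι] {F : Type*} [Field F] {R : Subgroup (GL ι F)} {k : ℕ}
variable {C : Coord R 2 k} {q : V2 k → ZMod 2} {Y : Subgroup (GL ι F)}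

/-- The size of the orbits of the characters. -/
theorem orb_card [Finite F] [Nonempty ι] (T : TC C q) (hk : 3 ≤ k) (hY : YCore C q Y) :
    haveI := hY.fact
    ∀ lam : AY R Y →* ℤˣ, lam ≠ 1 → ∃ u : V2 k, u ≠ 0 ∧
      (orbSet (AY R Y) lam).ncard = Fintype.card {v : V2 k // v ≠ 0 ∧ q v = q u} := by
  classical
  haveI := hY.fact
  intro lam hlam
  have hq := T.isQ
  obtain ⟨e, he1, he2, he3⟩ := exists_e C hY.le
  have heq1 : e 1 = 0 := by
    have := he2 1 1
    rw [mul_one] at this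
    exact (left_eq_add.1 this)
  have hmem : ∀ x : R, mkY Y ⟨x, hY.le x.2⟩ ∈ AY R Y := fun x => mem_AY.2 ⟨_, x.2, rfl⟩
  have hrep : ∀ a : AY R Y, ∃ x : R, a = ⟨mkY Y ⟨x, hY.le x.2⟩, hmem x⟩ := by
    rintro ⟨a, ha⟩
    obtain ⟨y, hy, rfl⟩ := mem_AY.1 ha
    exact ⟨⟨y, hy⟩, rfl⟩
  -- conjugation
  have hconj : ∀ A ∈ Wq q, ∃ y : QY Y, ∀ a : AY R Y, e (MulAut.conjNormal y a) = ac A (e a) := by
    intro A hA
    obtain ⟨g, hg, hi⟩ := hY.ind A hA
    refine ⟨mkY Y ⟨g, hg⟩, fun a => ?_⟩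
    obtain ⟨x, rfl⟩ := hrep a
    obtain ⟨x', h1, h3⟩ := hi x
    have h4 : MulAut.conjNormal (mkY Y ⟨g, hg⟩) ⟨mkY Y ⟨x, hY.le x.2⟩, hmem x⟩ =
        (⟨mkY Y ⟨x', hY.le x'.2⟩, hmem x'⟩ : AY R Y) := by
      apply Subtype.ext
      rw [MulAut.conjNormal_apply]
      change mkY Y ⟨g, hg⟩ * mkY Y ⟨x, hY.le x.2⟩ * (mkY Y ⟨g, hg⟩)⁻¹ = mkY Y ⟨x', hY.le x'.2⟩
      rw [← map_inv, ← map_mul, ← map_mul]
      congr 1
      exact Subtype.ext h1
    rw [h4, he1, he1, h3]
    rfl
  -- conjugation preserves `q`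
  have hpres : ∀ (y : QY Y) (a : AY R Y), q (e (MulAut.conjNormal y a)) = q (e a) := by
    intro y a
    obtain ⟨⟨g, hg⟩, rfl⟩ := QuotientGroup.mk'_surjective _ y
    obtain ⟨x, rfl⟩ := hrep a
    have hn := hY.norm hg
    rw [subgroupNormalizer, Subgroup.mem_normalizer_iff] at hn
    have hx' : g * x * g⁻¹ ∈ R := (hn x).1 x.2
    have h4 : MulAut.conjNormal (mkY Y ⟨g, hg⟩) ⟨mkY Y ⟨x, hY.le x.2⟩, hmem x⟩ =
        (⟨mkY Y ⟨g * x * g⁻¹, hY.le hx'⟩, hmem ⟨_, hx'⟩⟩ : AY R Y) := by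
      apply Subtype.ext
      rw [MulAut.conjNormal_apply]
      change mkY Y ⟨g, hg⟩ * mkY Y ⟨x, hY.le x.2⟩ * (mkY Y ⟨g, hg⟩)⁻¹ = mkY Y ⟨g * x * g⁻¹, hY.le hx'⟩
      rw [← map_inv, ← map_mul, ← map_mul]
      rfl
    have h5 : e (MulAut.conjNormal (mkY Y ⟨g, hg⟩) ⟨mkY Y ⟨x, hY.le x.2⟩, hmem x⟩) = C.φ ⟨g * x * g⁻¹, hx'⟩ := by
      rw [h4]
      exact he1 ⟨_, hx'⟩ _
    have h6 : e ⟨mkY Y ⟨x, hY.le x.2⟩, hmem x⟩ = C.φ x := he1 x _
    change q (e (MulAut.conjNormal (mkY Y ⟨g, hg⟩) ⟨mkY Y ⟨x, hY.le x.2⟩, hmem x⟩)) = _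
    rw [h5, h6]
    have h7 := T.sqs ⟨g * x * g⁻¹, hx'⟩
    have h8 := T.sqs x
    have h9 : ((g * x * g⁻¹ : GL ι F) : Matrix ι ι F) * ((g * x * g⁻¹ : GL ι F) : Matrix ι ι F) =
        (g : Matrix ι ι F) * (((x : GL ι F) : Matrix ι ι F) * ((x : GL ι F) : Matrix ι ι F)) * ((g⁻¹ : GL ι F) : Matrix ι ι F) := by
      rw [← Units.val_mul, ← Units.val_mul, ← Units.val_mul, ← Units.val_mul]
      congr 1
      group
    have h10 : ((g * x * g⁻¹ : GL ι F) : Matrix ι ι F) * ((g * x * g⁻¹ : GL ι F) : Matrix ι ι F) =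
        sF F (q (C.φ x)) • 1 := by
      rw [h9, h8, Matrix.mul_smul, Matrix.mul_one, Matrix.smul_mul]
      congr 1
      rw [← Units.val_mul, mul_inv_cancel, Units.val_one]
    rw [h10] at h7
    have h11 : (sF F (q (C.φ x)) - sF F (q (C.φ ⟨g * x * g⁻¹, hx'⟩))) • (1 : Matrix ι ι F) = 0 := by
      rw [sub_smul, h7, sub_self]
    have h12 := sub_eq_zero.1 ((smul_eq_zero.1 h11).resolve_right one_ne_zero)
    exact (sF_inj T.two h12).symm
  -- the vector of lam
  let einv : V2 k → AY R Y := (Equiv.ofBijective e he3).symm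
  have hee : ∀ v, e (einv v) = v := fun v => (Equiv.ofBijective e he3).apply_symm_apply v
  have hee' : ∀ a, einv (e a) = a := fun a => (Equiv.ofBijective e he3).symm_apply_apply a
  have heinv : ∀ v w, einv (v + w) = einv v * einv w := fun v w => he3.1 (by rw [hee, he2, hee, hee])
  let s : ℤˣ → ZMod 2 := fun u => if u = 1 then 0 else 1
  have hs : ∀ u w, s (u * w) = s u + s w := by decide
  have hsinj : Function.Injective s := by
    intro u w
    revert u w
    decide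
  have hrepr : ∀ mu : AY R Y →* ℤˣ, ∃ u, ∀ a, s (mu a) = bf (e a) u := by
    intro mu
    obtain ⟨u, hu⟩ := exists_bf_repr (k := k) (fun v => s (mu (einv v))) (by
      intro v w
      rw [heinv, map_mul, hs])
    refine ⟨u, fun a => ?_⟩
    have := hu (e a)
    rw [hee'] at this
    exact this
  have huniq : ∀ u u' : V2 k, (∀ v, bf v u = bf v u') → u = u' := by
    intro u u' h
    apply v2_eq_of_add
    by_contra hne
    obtain ⟨x, hx⟩ := exists_bf_one hne
    rw [bf_add_right, h, z2_two] at hx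
    exact z2_ne hx.symm
  obtain ⟨u, hlam'⟩ := hrepr lam
  have hu0 : u ≠ 0 := by
    rintro rfl
    apply hlam
    ext a
    have h1 : s (lam a) = s 1 := by rw [hlam', bf_zero_right]; rfl
    rw [hsinj h1]; rfl
  refine ⟨u, hu0, ?_⟩
  -- the orbit
  have horb : ∀ u', u' ≠ 0 → q u' = q u → ∃ mu ∈ orbSet (AY R Y) lam, ∀ a, s (mu a) = bf (e a) u' := by
    intro u' hu' hqu
    obtain ⟨A, hA, hA'⟩ := hq.Wq_trans hk hu' hu0 hqu
    obtain ⟨y, hy⟩ := hconj A hA
    refine ⟨_, ⟨y, rfl⟩, fun a => ?_⟩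
    change s (lam (MulAut.conjNormal y a)) = _
    rw [hlam', hy, ← hA', ac_bf]
  have horb' : ∀ mu ∈ orbSet (AY R Y) lam, ∃ u', (u' ≠ 0 ∧ q u' = q u) ∧ ∀ a, s (mu a) = bf (e a) u' := by
    rintro mu ⟨y, rfl⟩
    -- the bijection
    let σ : V2 k → V2 k := fun v => e (MulAut.conjNormal y (einv v))
    have hσadd : ∀ v w, σ (v + w) = σ v + σ w := by
      intro v w
      change e (MulAut.conjNormal y (einv (v + w))) = _
      rw [heinv, map_mul, he2]
    have hσq : ∀ v, q (σ v) = q v := by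
      intro v
      change q (e (MulAut.conjNormal y (einv v))) = _
      rw [hpres, hee]
    have hσbf : ∀ v w, bf (σ v) (σ w) = bf v w := by
      intro v w
      have h1 := hq.add (σ v) (σ w)
      have h2 := hq.add v w
      rw [← hσadd, hσq, hσq, hσq, h2] at h1
      exact (add_left_cancel h1).symm
    have hσinj : Function.Injective σ := by
      intro v w hvw
      have h1 := he3.1 hvw
      have h2 := (MulAut.conjNormal y).injective h1
      have h3 := congrArg e h2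
      rw [hee, hee] at h3
      exact h3
    have hσsurj : Function.Surjective σ := Finite.injective_iff_surjective.1 hσinj
    obtain ⟨u', hu'⟩ := hσsurj u
    refine ⟨u', ⟨?_, ?_⟩, ?_⟩
    · rintro rfl
      apply hu0
      rw [← hu']
      have := hσadd 0 0
      rw [add_zero] at this
      exact (left_eq_add.1 this)
    · rw [← hu', hσq]
    · intro a
      change s (lam (MulAut.conjNormal y a)) = _
      rw [hlam', ← hu']
      have h1 : e (MulAut.conjNormal y a) = σ (e a) := by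
        change _ = e (MulAut.conjNormal y (einv (e a)))
        rw [hee']
      rw [h1, hσbf]
  have hfin : Finite (AY R Y →* ℤˣ) := by
    haveI : Finite (AY R Y) := inferInstance
    exact Finite.of_injective (fun f : AY R Y →* ℤˣ => (f : AY R Y → ℤˣ)) DFunLike.coe_injective
  rw [← Nat.card_eq_fintype_card]
  change Nat.card (orbSet (AY R Y) lam) = _
  apply le_antisymm
  · choose! w hw hw' using horb'
    apply Nat.card_le_card_of_injective (fun mu : orbSet (AY R Y) lam =>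
      (⟨w mu.1, hw _ mu.2⟩ : {v : V2 k // v ≠ 0 ∧ q v = q u}))
    intro mu nu hmn
    have h1 : w mu.1 = w nu.1 := congrArg Subtype.val hmn
    apply Subtype.ext
    ext a
    have h2 := hw' _ mu.2 a
    rw [h1, ← hw' _ nu.2 a] at h2
    rw [hsinj h2]
  · choose! mu hmu hmu' using horb
    apply Nat.card_le_card_of_injective (fun v : {v : V2 k // v ≠ 0 ∧ q v = q u} =>
      (⟨mu v.1, hmu _ v.2.1 v.2.2⟩ : orbSet (AY R Y) lam))
    intro v w hvw
    have h1 : mu v.1 = mu w.1 := congrArg Subtype.val hvw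
    apply Subtype.ext
    apply huniq
    intro x
    have h3 := hmu' _ v.2.1 v.2.2 (einv x)
    have h4 := hmu' _ w.2.1 w.2.2 (einv x)
    rw [h1, h4, hee] at h3
    exact h3.symm

/-- **Orbits of characters in minus type.** -/
theorem horb_minus [Finite F] [Nonempty ι] (T : TC C q) (hk : 3 ≤ k) (_hR : Cfsg.Geo.IsSymplecticTypeGroup 2 R)
    (hY : YCore C q Y) (hminus : Cfsg.Geo.IsOfMinusType k R) :
    haveI := hY.fact
    ∀ lam : AY R Y →* ℤˣ, lam ≠ 1 → (orbSet (AY R Y) lam).ncard ≠ N0 k + 1 := by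
  classical
  intro lam hlam
  obtain ⟨u, hu, h⟩ := orb_card T hk hY lam hlam
  have hq := T.isQ
  have hg := gauss_minus hq (by omega) (not_plus T (by omega) hminus)
  obtain ⟨h1, h2⟩ := hq.count
  rw [hg] at h2
  have e1 : (2 : ℤ) ^ (2 * k) = 2 * 2 ^ (2 * k - 1) := by
    rw [← pow_succ']; congr 1; omega
  have e3 : (2 : ℤ) ^ k = 2 * 2 ^ (k - 1) := by
    rw [← pow_succ']; congr 1; omega
  rw [e1] at h1
  rw [e3] at h2
  have hz : (Fintype.card {v : V2 k // q v = 0} : ℤ) = 2 ^ (2 * k - 1) - 2 ^ (k - 1) := by linarith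
  have ho : (Fintype.card {v : V2 k // q v = 1} : ℤ) = 2 ^ (2 * k - 1) + 2 ^ (k - 1) := by linarith
  have hlt : 2 ^ (k - 1) < 2 ^ (2 * k - 1) := Nat.pow_lt_pow_right (by norm_num) (by omega)
  have hpos : 0 < 2 ^ (k - 1) := by positivity
  have hz' : Fintype.card {v : V2 k // q v = 0} + 2 ^ (k - 1) = 2 ^ (2 * k - 1) := by
    have : (Fintype.card {v : V2 k // q v = 0} : ℤ) + 2 ^ (k - 1) = 2 ^ (2 * k - 1) := by linarith
    exact_mod_cast this
  have ho' : Fintype.card {v : V2 k // q v = 1} = 2 ^ (2 * k - 1) + 2 ^ (k - 1) := by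
    exact_mod_cast ho
  rw [h]
  unfold N0
  rcases z2 (q u) with h0 | h0
  · have h3 : Fintype.card {v : V2 k // q v = 0} = Fintype.card {v : V2 k // v ≠ 0 ∧ q v = q u} + 1 := by
      have h4 : Fintype.card {v : V2 k // v ≠ 0 ∧ q v = q u} = Fintype.card {v : {v : V2 k // q v = 0} // v ≠ ⟨0, hq.zero⟩} := by
        apply Fintype.card_congr
        exact
          { toFun := fun v => ⟨⟨v.1, by rw [v.2.2, h0]⟩, fun h0 => v.2.1 (congrArg Subtype.val h0)⟩
            invFun := fun v => ⟨v.1.1, fun h0 => v.2 (Subtype.ext h0), by rw [v.1.2, h0]⟩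
            left_inv := fun v => rfl
            right_inv := fun v => rfl }
      rw [h4, Fintype.card_subtype_compl, Fintype.card_subtype_eq]
      have : 0 < Fintype.card {v : V2 k // q v = 0} := Fintype.card_pos_iff.2 ⟨⟨0, hq.zero⟩⟩
      omega
    omega
  · have h3 : Fintype.card {v : V2 k // q v = 1} = Fintype.card {v : V2 k // v ≠ 0 ∧ q v = q u} := by
      apply Fintype.card_congr
      exact
        { toFun := fun v => ⟨v.1, hq.ne_zero v.2, by rw [v.2, h0]⟩
          invFun := fun v => ⟨v.1, by rw [v.2.2, h0]⟩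
          left_inv := fun v => rfl
          right_inv := fun v => rfl }
    omega

end Cfsg.Agent.H762.C6
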