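import Cfsg.Agent.H762.FineTools
import Cfsg.Agent.H203.LSG2
import Cfsg.Agent.H203.LSTwD4
import Cfsg.Agent.H203.LSTwF4
import Cfsg.Agent.H203.LSSz
import Cfsg.Agent.S2121
import Cfsg.Agent.S2126
import Cfsg.Agent.S2127
import Cfsg.Agent.S2128
import Cfsg.Agent.S2129
import Cfsg.Agent.S1059
import Cfsg.Agent.S1067
import Cfsg.Agent.S1163
import Cfsg.Agent.S1068
import Cfsg.Agent.S1069

/-!
helper762 (market task 768, for S4881): `Fine` for `G₂(q)`, `q ≥ 5`, `³D₄(q)`, `Sz(q)`, `²G₂(q)`, `²F₄(q)`.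
-/

set_option autoImplicit false

namespace Cfsg.Agent.H762.FineExc

open Cfsg Cfsg.Agent.H698 Cfsg.Agent.H92.KTools Cfsg.Agent.H762.FineTools

universe u v w

theorem two_pow (n : ℕ) (a b : ℕ) (h : a * n ≤ 3 * b) : n ^ a ≤ 11 ^ b := by
  have h1 : n ≤ 2 ^ n := Nat.lt_two_pow_self.le
  calc n ^ a ≤ (2 ^ n) ^ a := Nat.pow_le_pow_left h1 a
    _ = 2 ^ (a * n) := by rw [← pow_mul, mul_comm]
    _ ≤ 2 ^ (3 * b) := Nat.pow_le_pow_right (by norm_num) h
    _ = 8 ^ b := by rw [pow_mul]; norm_num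
    _ ≤ 11 ^ b := Nat.pow_le_pow_left (by norm_num) b

/-! ### `G₂(q)` -/

theorem fine_g2_big {F : Type v} [Field F] [Fintype F] (h5 : 5 ≤ Fintype.card F) :
    Fine.{v, w} ↥(Lie.chevG2.group F) := by
  obtain ⟨r, hchar⟩ := CharP.exists F
  have hr : r.Prime := (CharP.char_is_prime_or_zero F r).resolve_right (CharP.char_ne_zero_of_finite F r)
  have hfact : Fact r.Prime := ⟨hr⟩
  obtain ⟨⟨f, hf⟩, -, hcard⟩ := FiniteField.card F r
  have hcard : Fintype.card F = r ^ f := hcard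
  set q := Fintype.card F with hq
  obtain ⟨hs, hna⟩ := S1055.result (F := F) (by
    classical
    by_contra hcon
    push Not at hcon
    have h1 : (Finset.univ : Finset F) ⊆ {0, 1} := by
      intro x _
      simp only [Finset.mem_insert, Finset.mem_singleton]
      by_cases hx : x = 0
      · exact Or.inl hx
      · exact Or.inr (hcon x hx)
    have h2 := Finset.card_le_card h1
    have h3 : ({0, 1} : Finset F).card ≤ 2 := Finset.card_le_two
    rw [Finset.card_univ] at h2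
    omega)
  have hT : Nat.card ↥(Lie.chevG2.group F) = q ^ 6 * (q ^ 2 - 1) * (q ^ 6 - 1) := S1059.result rfl
  have hout : Nat.card (Out ↥(Lie.chevG2.group F)) ≤ 2 * q := by
    rw [S2121.result r f hcard (by rw [← hcard]; omega)]
    have h1 : f < r ^ f := Nat.lt_pow_self hr.one_lt
    split_ifs <;> omega
  have hLS := H203.LS.G2.ls.{v, w, w} (r := r) F (by rw [Nat.card_eq_fintype_card]; omega)
    (by rw [Nat.card_eq_fintype_card]; omega)
  rw [Nat.card_eq_fintype_card, ← hq] at hLS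
  have hd : (q - 1) * q = (q - 1) * q - 1 + 1 := by
    have : 0 < (q - 1) * q := Nat.mul_pos (by omega) (by omega)
    omega
  rw [hd] at hLS
  refine of_LS hna hr ?_ hLS ?_
  · rw [hT]
    refine Dvd.dvd.mul_right (Dvd.dvd.mul_right (dvd_pow ?_ (by norm_num)) _) _
    rw [hcard]
    refine dvd_pow_self r ?_
    rintro rfl
    rw [pow_zero] at hcard
    omega
  · have h1 : Nat.card ↥(Lie.chevG2.group F) ≤ q ^ 14 := by
      rw [hT]
      calc q ^ 6 * (q ^ 2 - 1) * (q ^ 6 - 1) ≤ q ^ 6 * q ^ 2 * q ^ 6 :=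
            Nat.mul_le_mul (Nat.mul_le_mul_left _ (Nat.sub_le _ _)) (Nat.sub_le _ _)
        _ = q ^ 14 := by ring
    have h2 : Nat.card ↥(Lie.chevG2.group F) * Nat.card (Out ↥(Lie.chevG2.group F)) ≤ q ^ 16 := by
      calc _ ≤ q ^ 14 * (2 * q) := Nat.mul_le_mul h1 hout
        _ ≤ q ^ 14 * (q * q) := Nat.mul_le_mul_left _ (Nat.mul_le_mul_right _ (by omega))
        _ = q ^ 16 := by ring
    refine h2.trans ?_
    by_cases h7 : 7 ≤ q
    · apply two_pow
      have h3 : 6 * q ≤ (q - 1) * q := Nat.mul_le_mul_right _ (by omega)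
      omega
    · have h6 : q = 5 ∨ q = 6 := by omega
      rcases h6 with h6 | h6 <;> rw [h6] <;> norm_num

/-! ### `³D₄(q)` -/

theorem fine_3d4 {K : Type v} [Field K] [Fintype K] {q : ℕ} (hq : IsPrimePow q) (hK : Fintype.card K = q ^ 3) :
    Fine.{v, w} ↥(Lie.twistedD4 K q) := by
  obtain ⟨r, f, hr, hf, rfl⟩ := hq
  have hr : r.Prime := hr.nat_prime
  have hfact : Fact r.Prime := ⟨hr⟩
  have hq : IsPrimePow (r ^ f) := ⟨r, f, hr.prime, hf, rfl⟩
  have hchar : CharP K r := H203.LS.charP_of_card (n := f * 3) hr (by rw [hK, pow_mul])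
  obtain ⟨hs, hna⟩ := S1071.result hq hK
  have hT := S1067.result hq hK
  have hout : Nat.card (Out ↥(Lie.twistedD4 K (r ^ f))) ≤ 3 * r ^ f := by
    rw [S2129.result r f (by rw [hK, ← pow_mul, mul_comm]) hf]
    exact Nat.mul_le_mul_left _ (Nat.lt_pow_self hr.one_lt).le
  have hLS := H203.LS.TwD4.ls.{v, w, w} (r := r) hq hK
  have h2 : 2 ≤ r ^ f := hq.two_le
  have hrq : r ∣ r ^ f := dvd_pow_self r hf.ne'
  generalize r ^ f = q at *
  have hd : (q - 1) * q ^ 4 = (q - 1) * q ^ 4 - 1 + 1 := by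
    have : 0 < (q - 1) * q ^ 4 := Nat.mul_pos (by omega) (by positivity)
    omega
  rw [hd] at hLS
  refine of_LS hna hr ?_ hLS ?_
  · rw [hT]
    exact Dvd.dvd.mul_right (Dvd.dvd.mul_right (Dvd.dvd.mul_right (hrq.trans (dvd_pow_self _ (by norm_num))) _) _) _
  · have h8 : q ^ 8 + q ^ 4 + 1 ≤ q ^ 9 := by
      have e1 : q ^ 9 = q * q ^ 8 := by ring
      have e2 : 2 * q ^ 8 ≤ q * q ^ 8 := Nat.mul_le_mul_right _ h2
      have e3 : q ^ 4 + 1 ≤ q ^ 8 := by
        have : q ^ 4 < q ^ 8 := Nat.pow_lt_pow_right (by omega) (by norm_num)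
        omega
      omega
    have h1 : Nat.card ↥(Lie.twistedD4 K q) ≤ q ^ 29 := by
      rw [hT]
      calc q ^ 12 * (q ^ 2 - 1) * (q ^ 6 - 1) * (q ^ 8 + q ^ 4 + 1) ≤ q ^ 12 * q ^ 2 * q ^ 6 * q ^ 9 :=
            Nat.mul_le_mul (Nat.mul_le_mul (Nat.mul_le_mul_left _ (Nat.sub_le _ _)) (Nat.sub_le _ _)) h8
        _ = q ^ 29 := by ring
    have h2' : Nat.card ↥(Lie.twistedD4 K q) * Nat.card (Out ↥(Lie.twistedD4 K q)) ≤ q ^ 32 := by
      calc _ ≤ q ^ 29 * (3 * q) := Nat.mul_le_mul h1 hout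
        _ ≤ q ^ 29 * (q ^ 2 * q) := Nat.mul_le_mul_left _ (Nat.mul_le_mul_right _ (by nlinarith))
        _ = q ^ 32 := by ring
    refine h2'.trans ?_
    by_cases h3 : 3 ≤ q
    · apply two_pow
      have h4 : 54 * q ≤ (q - 1) * q ^ 4 := by
        have e1 : 2 * (27 * q) ≤ (q - 1) * q ^ 4 := by
          refine Nat.mul_le_mul (by omega) ?_
          have e2 : q ^ 4 = q ^ 3 * q := by ring
          rw [e2]
          refine Nat.mul_le_mul_right _ ?_
          calc 27 = 3 ^ 3 := by norm_num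
            _ ≤ q ^ 3 := Nat.pow_le_pow_left h3 3
        omega
      omega
    · have h6 : q = 2 := by omega
      rw [h6]
      norm_num

/-! ### `Sz(q)` -/

theorem fine_sz {F : Type v} [Field F] [Fintype F] {m : ℕ} (hm : 1 ≤ m) (hF : Fintype.card F = 2 ^ (2 * m + 1)) :
    Fine.{v, w} ↥(Lie.Sz F (2 ^ (m + 1))) := by
  have hs := S1162.result hm hF
  have hT := (S1163.result hm hF).1
  have hout : Nat.card (Out ↥(Lie.Sz F (2 ^ (m + 1)))) ≤ 2 ^ (2 * m + 1) := by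
    rw [S2126.result hm hF]
    exact (Nat.lt_two_pow_self).le
  have hLS := H203.LS.LS.sz.{v, w, w} hm hF
  rw [Nat.card_eq_fintype_card, hF] at hLS
  have h8 : 8 ≤ 2 ^ (2 * m + 1) := by
    calc 8 = 2 ^ 3 := by norm_num
      _ ≤ _ := Nat.pow_le_pow_right (by norm_num) (by omega)
  have h2q : 2 ∣ 2 ^ (2 * m + 1) := dvd_pow_self 2 (by omega)
  generalize 2 ^ (2 * m + 1) = q at *
  have hna : ¬ IsMulCommutative ↥(Lie.Sz F (2 ^ (m + 1))) := by
    intro hc
    have hp : (Nat.card ↥(Lie.Sz F (2 ^ (m + 1)))).Prime := by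
      have : IsCyclic ↥(Lie.Sz F (2 ^ (m + 1))) := by
        letI : CommGroup ↥(Lie.Sz F (2 ^ (m + 1))) := { (inferInstance : Group ↥(Lie.Sz F (2 ^ (m + 1)))) with mul_comm := hc.is_comm.comm }
        exact IsSimpleGroup.isCyclic
      letI : CommGroup ↥(Lie.Sz F (2 ^ (m + 1))) := { (inferInstance : Group ↥(Lie.Sz F (2 ^ (m + 1)))) with mul_comm := hc.is_comm.comm }
      exact IsSimpleGroup.prime_card
    rw [hT] at hp
    have h1 := Nat.not_prime_mul (a := q ^ 2 * (q - 1)) (b := q ^ 2 + 1) ?_ ?_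
    · exact h1 hp
    · intro h2
      have := Nat.eq_one_of_mul_eq_one_right h2
      nlinarith
    · nlinarith
  have hd : q - 1 = q - 2 + 1 := by omega
  rw [hd] at hLS
  refine of_LS hna Nat.prime_two ?_ hLS ?_
  · rw [hT]
    exact Dvd.dvd.mul_right (Dvd.dvd.mul_right (h2q.trans (dvd_pow_self _ (by norm_num))) _) _
  · have h1 : Nat.card ↥(Lie.Sz F (2 ^ (m + 1))) ≤ q ^ 5 := by
      rw [hT]
      obtain ⟨k, rfl⟩ : ∃ k, q = k + 1 := ⟨q - 1, by omega⟩
      rw [Nat.add_sub_cancel]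
      calc (k + 1) ^ 2 * k * ((k + 1) ^ 2 + 1) = (k + 1) ^ 2 * (k * ((k + 1) ^ 2 + 1)) := by ring
        _ ≤ (k + 1) ^ 2 * (k + 1) ^ 3 := Nat.mul_le_mul_left _ (by nlinarith [sq_nonneg k])
        _ = (k + 1) ^ 5 := by ring
    calc _ ≤ q ^ 5 * q := Nat.mul_le_mul h1 hout
      _ = q ^ 6 := by ring
      _ ≤ 11 ^ (q - 2) := pow_six q h8

/-! ### `²G₂(q)` -/

theorem pow_eight (n : ℕ) (hn : 27 ≤ n) : n ^ 8 ≤ 11 ^ (n - 2) := by
  induction n, hn using Nat.le_induction with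
  | base => norm_num
  | succ n hn ih =>
    have e : n + 1 - 2 = n - 2 + 1 := by omega
    rw [e, pow_succ 11]
    have h1 : (n + 1) ^ 8 ≤ 11 * n ^ 8 := by
      have h2 : (n + 1) ^ 2 ≤ 3 * n ^ 2 - n ^ 2 := by
        have : (n + 1) ^ 2 ≤ 2 * n ^ 2 := by nlinarith
        omega
      have h3 : 27 * (n + 1) ≤ 28 * n := by omega
      have h4 : (27 * (n + 1)) ^ 8 ≤ (28 * n) ^ 8 := Nat.pow_le_pow_left h3 8
      rw [mul_pow, mul_pow] at h4
      have h5 : (27 : ℕ) ^ 8 = 282429536481 := by norm_num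
      have h6 : (28 : ℕ) ^ 8 = 377801998336 := by norm_num
      rw [h5, h6] at h4
      omega
    omega

theorem fine_ree {F : Type v} [Field F] [Fintype F] {m : ℕ} (hm : 1 ≤ m) (hF : Fintype.card F = 3 ^ (2 * m + 1)) :
    Fine.{v, w} ↥(Lie.twistedG2 F (3 ^ m)) := by
  obtain ⟨hs, hna⟩ := S1073.result hm hF
  have hT := S1069.result hF
  have hout : Nat.card (Out ↥(Lie.twistedG2 F (3 ^ m))) ≤ 3 ^ (2 * m + 1) := by
    rw [S2127.result hm hF]
    exact (Nat.lt_pow_self (by norm_num)).le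
  have hLS := H203.LS.LS.ree.{v, w, w} hm hF
  rw [Nat.card_eq_fintype_card, hF] at hLS
  have h8 : 27 ≤ 3 ^ (2 * m + 1) := by
    calc 27 = 3 ^ 3 := by norm_num
      _ ≤ _ := Nat.pow_le_pow_right (by norm_num) (by omega)
  have h2q : 3 ∣ 3 ^ (2 * m + 1) := dvd_pow_self 3 (by omega)
  generalize 3 ^ (2 * m + 1) = q at *
  have hd : q - 1 = q - 2 + 1 := by omega
  rw [hd] at hLS
  refine of_LS hna Nat.prime_three ?_ hLS ?_
  · rw [hT]
    exact Dvd.dvd.mul_right (Dvd.dvd.mul_right (h2q.trans (dvd_pow_self _ (by norm_num))) _) _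
  · have h1 : Nat.card ↥(Lie.twistedG2 F (3 ^ m)) ≤ q ^ 7 := by
      rw [hT]
      obtain ⟨k, rfl⟩ : ∃ k, q = k + 1 := ⟨q - 1, by omega⟩
      rw [Nat.add_sub_cancel]
      calc (k + 1) ^ 3 * k * ((k + 1) ^ 3 + 1) = (k + 1) ^ 3 * (k * ((k + 1) ^ 3 + 1)) := by ring
        _ ≤ (k + 1) ^ 3 * (k + 1) ^ 4 := Nat.mul_le_mul_left _ (by nlinarith [sq_nonneg k, pow_nonneg (Nat.zero_le k) 3])
        _ = (k + 1) ^ 7 := by ring
    calc _ ≤ q ^ 7 * q := Nat.mul_le_mul h1 hout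
      _ = q ^ 8 := by ring
      _ ≤ 11 ^ (q - 2) := pow_eight q h8

/-! ### `²F₄(q)` -/

theorem fine_2f4 {F : Type v} [Field F] [Fintype F] {m : ℕ} (hm : 1 ≤ m) (hF : Fintype.card F = 2 ^ (2 * m + 1)) :
    Fine.{v, w} ↥(Lie.twistedF4 F (2 ^ m)) := by
  obtain ⟨hs, hna⟩ := S1072.result hm hF
  have hT := S1068.result hF
  have hout : Nat.card (Out ↥(Lie.twistedF4 F (2 ^ m))) ≤ 2 ^ (2 * m + 1) := by
    rw [S2128.result hm hF]
    exact (Nat.lt_two_pow_self).le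
  have hLS := H203.LS.TwF4.ls.{v, w, w} hm hF
  rw [Nat.card_eq_fintype_card, hF] at hLS
  have h8 : 8 ≤ 2 ^ (2 * m + 1) := by
    calc 8 = 2 ^ 3 := by norm_num
      _ ≤ _ := Nat.pow_le_pow_right (by norm_num) (by omega)
  have h2q : 2 ∣ 2 ^ (2 * m + 1) := dvd_pow_self 2 (by omega)
  generalize 2 ^ (2 * m + 1) = q at *
  have hd : (q - 1) * q ^ 2 = (q - 1) * q ^ 2 - 1 + 1 := by
    have : 0 < (q - 1) * q ^ 2 := Nat.mul_pos (by omega) (by positivity)
    omega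
  rw [hd] at hLS
  refine of_LS hna Nat.prime_two ?_ hLS ?_
  · rw [hT, mul_assoc, mul_assoc, mul_assoc]
    exact Dvd.dvd.mul_right (h2q.trans (dvd_pow_self _ (by norm_num))) _
  · have e3 : q ^ 3 + 1 ≤ q ^ 4 := by
      have : q ^ 3 < q ^ 4 := Nat.pow_lt_pow_right (by omega) (by norm_num)
      omega
    have e6 : q ^ 6 + 1 ≤ q ^ 7 := by
      have : q ^ 6 < q ^ 7 := Nat.pow_lt_pow_right (by omega) (by norm_num)
      omega
    have h1 : Nat.card ↥(Lie.twistedF4 F (2 ^ m)) ≤ q ^ 28 := by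
      rw [hT]
      calc q ^ 12 * (q - 1) * (q ^ 3 + 1) * (q ^ 4 - 1) * (q ^ 6 + 1) ≤ q ^ 12 * q * q ^ 4 * q ^ 4 * q ^ 7 :=
            Nat.mul_le_mul (Nat.mul_le_mul (Nat.mul_le_mul (Nat.mul_le_mul_left _ (Nat.sub_le _ _)) e3)
              (Nat.sub_le _ _)) e6
        _ = q ^ 28 := by ring
    calc _ ≤ q ^ 28 * q := Nat.mul_le_mul h1 hout
      _ = q ^ 29 := by ring
      _ ≤ 11 ^ ((q - 1) * q ^ 2 - 1) := by
        apply two_pow
        have e1 : 7 * (8 * q) ≤ (q - 1) * q ^ 2 := by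
          refine Nat.mul_le_mul (by omega) ?_
          rw [sq]
          exact Nat.mul_le_mul_right _ h8
        omega

end Cfsg.Agent.H762.FineExc
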