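import Cfsg.Agent.H857.Ree8.Defs
import Cfsg.Agent.Lib.MinNormalNonabelian
import Cfsg.Agent.Lib.SubnormalJoin
import Cfsg.Agent.Schreier.Basic
import Cfsg.Agent.Nodes.Reps

/-!
helper762 (task A of S5936): overgroups of `PGL₂(13)` in `²F₄(8)`, local part: minimal normal subgroups.
-/

set_option autoImplicit false

namespace Cfsg.Agent.H762.ReeEight

open Subgroup Cfsg.Agent.H857.Ree8 Cfsg.Agent.Lib.MinNormalNonabelian Cfsg.Agent.Lib.MinNormal Cfsg.Agent.Nodes.Reps
open Cfsg.Agent.Schreier.Basic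
open scoped commutatorElement

/-- the relations of `PSL₂(13)`: `x : z ↦ z + 1`, `t : z ↦ 4 z`, `w : z ↦ -1 / z` -/
structure Rel2 {G : Type*} [Group G] (x t w : G) : Prop where
  x13 : x ^ 13 = 1
  x1 : x ≠ 1
  t6 : t ^ 6 = 1
  tx : t * x * t⁻¹ = x ^ 4
  w2 : w * w = 1
  wt : w * t * w⁻¹ = t⁻¹
  xw : (x * w) ^ 3 = 1
  tt : t⁻¹ = x ^ 7 * (w * x ^ 2 * w) * x ^ 7 * w

theorem wxw_eq {G : Type*} [Group G] {x w : G} (w2 : w * w = 1) (xw : (x * w) ^ 3 = 1) :
    w * x * w = x⁻¹ * w * x⁻¹ := by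
  have hw : w⁻¹ = w := by rw [inv_eq_iff_mul_eq_one]; exact w2
  have h1 : x * (w * x * w) * (x * w) = 1 := by
    rw [← xw, pow_succ, pow_succ, pow_one]; group
  calc w * x * w = x⁻¹ * (x * (w * x * w) * (x * w)) * w⁻¹ * x⁻¹ := by group
    _ = x⁻¹ * w * x⁻¹ := by rw [h1, hw, mul_one]

theorem Rel2.of_rel {G : Type*} [Group G] {x s w : G} (h : Rel x s w) : Rel2 x (s ^ 2) w := by
  have hw : w⁻¹ = w := by rw [inv_eq_iff_mul_eq_one]; exact h.w2
  have h1 : s * x ^ 7 * s⁻¹ = x := by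
    calc s * x ^ 7 * s⁻¹ = (s * x * s⁻¹) ^ 7 := by rw [conj_pow]
      _ = x ^ 13 * x := by rw [h.sx, ← pow_mul, ← pow_succ]
      _ = x := by rw [h.x13, one_mul]
  have h2 : s⁻¹ * x * s = x ^ 7 := by
    calc s⁻¹ * x * s = s⁻¹ * (s * x ^ 7 * s⁻¹) * s := by rw [h1]
      _ = x ^ 7 := by group
  have h3 : s ^ 2 * x ^ 7 * (s ^ 2)⁻¹ = x ^ 2 := by
    calc s ^ 2 * x ^ 7 * (s ^ 2)⁻¹ = s * (s * x ^ 7 * s⁻¹) * s⁻¹ := by rw [pow_two]; group
      _ = x ^ 2 := by rw [h1, h.sx]
  have h4 : w * s = s⁻¹ * w := by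
    calc w * s = w * s * w⁻¹ * w := by group
      _ = s⁻¹ * w := by rw [h.ws]
  have h5 : w * s⁻¹ = s * w := by
    calc w * s⁻¹ = w * (w * s * w⁻¹) := by rw [h.ws]
      _ = (w * w) * s * w⁻¹ := by group
      _ = s * w := by rw [h.w2, one_mul, hw]
  have h6 : w * s * s = s⁻¹ * s⁻¹ * w := by
    calc w * s * s = s⁻¹ * w * s := by rw [h4]
      _ = s⁻¹ * (w * s) := by group
      _ = s⁻¹ * s⁻¹ * w := by rw [h4, mul_assoc]
  refine ⟨h.x13, h.x1, by rw [← pow_mul]; exact h.s12, ?_, h.w2, ?_, h.xw, ?_⟩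
  · calc s ^ 2 * x * (s ^ 2)⁻¹ = s * (s * x * s⁻¹) * s⁻¹ := by rw [pow_two]; group
      _ = s * x ^ 2 * s⁻¹ := by rw [h.sx]
      _ = (s * x * s⁻¹) ^ 2 := by rw [conj_pow]
      _ = x ^ 4 := by rw [h.sx, ← pow_mul]
  · calc w * s ^ 2 * w⁻¹ = (w * s * w⁻¹) ^ 2 := by rw [conj_pow]
      _ = (s ^ 2)⁻¹ := by rw [h.ws, inv_pow]
  · have e1 : s⁻¹ * (w * x * w) * s = w * x ^ 2 * w := by
      calc s⁻¹ * (w * x * w) * s = (s⁻¹ * w) * s * (s⁻¹ * x * s) * (s⁻¹ * (w * s)) := by group
        _ = (w * s) * s * x ^ 7 * (s⁻¹ * (s⁻¹ * w)) := by rw [← h4, h2]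
        _ = w * (s ^ 2 * x ^ 7 * (s ^ 2)⁻¹) * w := by rw [pow_two]; group
        _ = w * x ^ 2 * w := by rw [h3]
    have e2 : s⁻¹ * (x⁻¹ * w * x⁻¹) * s = (x ^ 7)⁻¹ * (s ^ 2)⁻¹ * w * (x ^ 7)⁻¹ := by
      calc s⁻¹ * (x⁻¹ * w * x⁻¹) * s = (s⁻¹ * x * s)⁻¹ * (s⁻¹ * (w * s)) * (s⁻¹ * x * s)⁻¹ := by group
        _ = (x ^ 7)⁻¹ * (s⁻¹ * (s⁻¹ * w)) * (x ^ 7)⁻¹ := by rw [h2, h4]
        _ = _ := by rw [pow_two]; group
    have e3 : w * x ^ 2 * w = (x ^ 7)⁻¹ * (s ^ 2)⁻¹ * w * (x ^ 7)⁻¹ := by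
      rw [← e1, wxw_eq h.w2 h.xw, e2]
    rw [e3]
    calc (s ^ 2)⁻¹ = (s ^ 2)⁻¹ * (w * w) := by rw [h.w2, mul_one]
      _ = _ := by group

variable {G : Type*} [Group G] {x t w : G}

theorem Rel2.inv_w (h : Rel2 x t w) : w⁻¹ = w := by rw [inv_eq_iff_mul_eq_one]; exact h.w2

theorem Rel2.w_mem (h : Rel2 x t w) {K : Subgroup G} (h1 : x ∈ K) (h2 : w * x * w⁻¹ ∈ K) : w ∈ K := by
  rw [h.inv_w, wxw_eq h.w2 h.xw] at h2
  have e : w = x * (x⁻¹ * w * x⁻¹) * x := by group
  rw [e]
  exact mul_mem (mul_mem h1 h2) h1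

theorem Rel2.t_mem (h : Rel2 x t w) {K : Subgroup G} (h1 : x ∈ K) (h2 : w ∈ K) : t ∈ K := by
  rw [← inv_mem_iff, h.tt]
  exact mul_mem (mul_mem (mul_mem (pow_mem h1 7) (mul_mem (mul_mem h2 (pow_mem h1 2)) h2)) (pow_mem h1 7)) h2

/-- the conditions satisfied by the subgroups of `²F₄(8)` containing `x, t, w` -/
structure Cond {G : Type*} [Group G] (x t w : G) : Prop extends Rel2 x t w where
  cx : Nat.card (centralizer ({x} : Set G)) ∣ 169
  cv : ∀ g, g * t ^ 3 = t ^ 3 * g → g ^ 13 = 1 → g = 1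
  rat : ∀ y : G, orderOf y = 13 → IsConj y (y ^ 4) → Nat.card (centralizer ({y} : Set G)) ∣ 169
  c3 : ¬ 13 ^ 3 ∣ Nat.card G
  cn : Nat.card (centralizer ({x} : Set G)) = 169 →
    Nat.card (normalizer (centralizer ({x} : Set G) : Set G)) ∣ 169 * 96

/-- a group of order dividing `169` is abelian -/
theorem comm_of_dvd {H : Type*} [Group H] (h : Nat.card H ∣ 169) (a b : H) : a * b = b * a := by
  have hp : Nat.Prime 13 := by decide
  have : Fact (Nat.Prime 13) := ⟨hp⟩
  have h' : Nat.card H ∣ 13 ^ 2 := h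
  obtain ⟨k, hk, e⟩ := (Nat.dvd_prime_pow hp).1 h'
  interval_cases k
  · have : Nat.card H = 1 := by rw [e, pow_zero]
    have h2 := (Nat.card_eq_one_iff_unique.1 this).1
    exact Subsingleton.elim _ _
  · have : IsCyclic H := isCyclic_of_prime_card (p := 13) (by rw [e, pow_one])
    exact (IsCyclic.isMulCommutative (α := H)).is_comm.comm a b
  · exact IsPGroup.commutative_of_card_eq_prime_sq e a b

theorem Cond.comm (C : Cond x t w) {g k : G} (hg : g * x = x * g) (hk : k * x = x * k) : g * k = k * g :=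
  congrArg Subtype.val (comm_of_dvd C.cx (⟨g, mem_centralizer_singleton_iff.2 hg⟩ : centralizer ({x} : Set G))
    ⟨k, mem_centralizer_singleton_iff.2 hk⟩)

theorem pow_of_dvd {H : Subgroup G} (h : Nat.card H ∣ 169) {g : G} (hg : g ∈ H) : g ^ 169 = 1 := by
  obtain ⟨k, hk⟩ := h
  have h1 : (⟨g, hg⟩ : H) ^ Nat.card H = 1 := pow_card_eq_one'
  have h2 : g ^ Nat.card H = 1 := congrArg Subtype.val h1
  rw [hk, pow_mul, h2, one_pow]

theorem Cond.pow (C : Cond x t w) {g : G} (hg : g * x = x * g) : g ^ 169 = 1 :=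
  pow_of_dvd C.cx (mem_centralizer_singleton_iff.2 hg)

theorem Cond.cent (C : Cond x t w) {g : G} (h1 : g * x = x * g) (h2 : g * w = w * g) : g = 1 := by
  have h3 : t ∈ centralizer ({g} : Set G) :=
    C.t_mem (mem_centralizer_singleton_iff.2 h1.symm) (mem_centralizer_singleton_iff.2 h2.symm)
  have h4 : g * t ^ 3 = t ^ 3 * g := (mem_centralizer_singleton_iff.1 (pow_mem h3 3)).symm
  have h5 := C.pow h1
  have h6 : g ^ 13 = 1 := by
    refine C.cv _ ?_ (by rw [← pow_mul]; exact h5)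
    exact (Commute.pow_left (show Commute g (t ^ 3) from h4) 13).eq
  exact C.cv g h4 h6

/-- `Cond` restricts to subgroups -/
theorem Cond.restrict (C : Cond x t w) [Finite G] {L : Subgroup G} (hx : x ∈ L) (ht : t ∈ L) (hw : w ∈ L) :
    Cond (⟨x, hx⟩ : L) ⟨t, ht⟩ ⟨w, hw⟩ := by
  have key : ∀ y : L, Nat.card (centralizer ({y} : Set L)) ∣ Nat.card (centralizer ({(y : G)} : Set G)) := by
    intro y
    let f : centralizer ({y} : Set L) →* centralizer ({(y : G)} : Set G) :=
      { toFun := fun g => ⟨(g.1 : G), mem_centralizer_singleton_iff.2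
          (congrArg Subtype.val (mem_centralizer_singleton_iff.1 g.2))⟩
        map_one' := rfl
        map_mul' := fun _ _ => rfl }
    exact card_dvd_of_injective f fun a b hab =>
      Subtype.ext (Subtype.ext (congrArg (fun z : centralizer ({(y : G)} : Set G) => (z : G)) hab))
  refine { x13 := Subtype.ext C.x13, x1 := fun h => C.x1 (congrArg Subtype.val h), t6 := Subtype.ext C.t6,
           tx := Subtype.ext C.tx, w2 := Subtype.ext C.w2, wt := Subtype.ext C.wt, xw := Subtype.ext C.xw,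
           tt := Subtype.ext C.tt, cx := (key _).trans C.cx, cv := ?_, rat := ?_, c3 := ?_, cn := ?_ }
  · intro g h1 h2
    exact Subtype.ext (C.cv g (congrArg Subtype.val h1) (congrArg Subtype.val h2))
  · intro y hy hc
    refine (key y).trans (C.rat y (by rw [← hy]; exact orderOf_injective L.subtype L.subtype_injective y) ?_)
    obtain ⟨c, hc⟩ := isConj_iff.1 hc
    exact isConj_iff.2 ⟨c, congrArg Subtype.val hc⟩
  · intro h
    exact C.c3 (h.trans (card_subgroup_dvd_card L))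
  · intro h
    have h1 : Nat.card (centralizer ({x} : Set G)) = 169 :=
      Nat.dvd_antisymm C.cx (h ▸ key _)
    -- the centralizer lies in `L`
    have h2 : ∀ g, g * x = x * g → g ∈ L := by
      let f : centralizer ({(⟨x, hx⟩ : L)} : Set L) →* centralizer ({x} : Set G) :=
        { toFun := fun g => ⟨(g.1 : G), mem_centralizer_singleton_iff.2
            (congrArg Subtype.val (mem_centralizer_singleton_iff.1 g.2))⟩
          map_one' := rfl
          map_mul' := fun _ _ => rfl }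
      have hf : Function.Injective f := fun a b hab =>
        Subtype.ext (Subtype.ext (congrArg (fun z : centralizer ({x} : Set G) => (z : G)) hab))
      have hs : Function.Surjective f :=
        ((Nat.bijective_iff_injective_and_card f).2 ⟨hf, by rw [h, h1]⟩).2
      intro g hg
      obtain ⟨a, ha⟩ := hs ⟨g, mem_centralizer_singleton_iff.2 hg⟩
      have h3 : ((a : L) : G) = g := congrArg Subtype.val ha
      rw [← h3]
      exact a.1.2
    refine dvd_trans ?_ (C.cn h1)
    let f : normalizer (centralizer ({(⟨x, hx⟩ : L)} : Set L) : Set L) →*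
        normalizer (centralizer ({x} : Set G) : Set G) :=
      { toFun := fun g => ⟨(g.1 : G), by
          have hg := g.2
          rw [mem_normalizer_iff] at hg ⊢
          intro k
          constructor
          · intro hk
            have hkL : k ∈ L := h2 k (mem_centralizer_singleton_iff.1 hk)
            have h3 := (hg ⟨k, hkL⟩).1 (mem_centralizer_singleton_iff.2
              (Subtype.ext (mem_centralizer_singleton_iff.1 hk)))
            exact mem_centralizer_singleton_iff.2 (congrArg Subtype.val (mem_centralizer_singleton_iff.1 h3))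
          · intro hk
            have hkL : (g.1 : G) * k * (g.1 : G)⁻¹ ∈ L := h2 _ (mem_centralizer_singleton_iff.1 hk)
            have hkL' : k ∈ L := by
              have := mul_mem (mul_mem (inv_mem g.1.2) hkL) g.1.2
              have e : (g.1 : G)⁻¹ * ((g.1 : G) * k * (g.1 : G)⁻¹) * g.1 = k := by group
              rwa [e] at this
            have h3 := (hg ⟨k, hkL'⟩).2 (mem_centralizer_singleton_iff.2
              (Subtype.ext (mem_centralizer_singleton_iff.1 hk)))
            exact mem_centralizer_singleton_iff.2 (congrArg Subtype.val (mem_centralizer_singleton_iff.1 h3))⟩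
        map_one' := rfl
        map_mul' := fun _ _ => rfl }
    exact card_dvd_of_injective f fun a b hab =>
      Subtype.ext (Subtype.ext (congrArg (fun z : normalizer (centralizer ({x} : Set G) : Set G) => (z : G)) hab))

/-! ### nonabelian minimal normal subgroups -/

section Nonab

variable [Finite G]

theorem mem_minSet_cj {N T : Subgroup G} [N.Normal] (hT : T ∈ minSet N) (g : G) : cj g T ∈ minSet N :=
  map_conj_mem_minSet hT g

/-- the structure of a nonabelian minimal normal subgroup -/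
structure NStr (N : Subgroup G) : Prop where
  nonempty : (minSet N).Nonempty
  simple : ∀ T ∈ minSet N, IsSimpleGroup T
  cen : ∀ T ∈ minSet N, ∀ z ∈ T, (∀ y ∈ T, Commute z y) → z = 1
  comm : ∀ S ∈ minSet N, ∀ T ∈ minSet N, S ≠ T → ∀ a ∈ S, ∀ b ∈ T, Commute a b
  gen : sSup (minSet N) = N

theorem NStr.of (N : Subgroup G) [N.Normal] (hmin : ∀ M : Subgroup G, M.Normal → M ≤ N → M = ⊥ ∨ M = N)
    (hna : ¬ ∀ a ∈ N, ∀ b ∈ N, Commute a b) : NStr N := by
  obtain ⟨h1, h2, h3, h4, h5, -⟩ := nonabelian_structure N hmin hna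
  exact ⟨h1, h4, h5, fun S hS T hT hne a ha b hb =>
    commute_of_mem h2 (fun U hU => hU.2.2.1) (fun U hU => hU.1) hS hT hne ha hb, h3⟩

/-- `x` normalises the simple factors -/
theorem Cond.cj_eq (C : Cond x t w) {N : Subgroup G} [N.Normal] (H : NStr N) {T : Subgroup G} (hT : T ∈ minSet N) :
    cj x T = T := by
  by_contra hne
  have hpow : ∀ i, 0 < i → i < 13 → cj (x ^ i) T ≠ T := by
    intro i h0 h13 he
    apply hne
    rw [← mem_normalizer_iff_cj] at he ⊢
    have hc : Nat.Coprime i 13 := by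
      rw [Nat.coprime_comm, Nat.Prime.coprime_iff_not_dvd (by decide)]
      intro hd
      have := Nat.le_of_dvd h0 hd
      omega
    have h2 := Nat.gcd_eq_gcd_ab i 13
    rw [hc.gcd_eq_one] at h2
    have h3 : x = (x ^ i) ^ (Nat.gcdA i 13) * (x ^ 13) ^ (Nat.gcdB i 13) := by
      rw [← zpow_natCast, ← zpow_natCast, ← zpow_mul, ← zpow_mul, ← zpow_add, ← h2, Nat.cast_one, zpow_one]
    rw [h3, C.x13, one_zpow, mul_one]
    exact zpow_mem he _
  obtain ⟨u, huT, hu⟩ : ∃ u ∈ T, u ^ 169 ≠ 1 := by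
    by_contra hcon
    push Not at hcon
    have : Fact (Nat.Prime 13) := ⟨by decide⟩
    have hp : IsPGroup 13 T := fun g => ⟨2, Subtype.ext (hcon g g.2)⟩
    have : Nontrivial T := (Subgroup.nontrivial_iff_ne_bot T).2 hT.2.1
    obtain ⟨z, hz⟩ := (Subgroup.ne_bot_iff_exists_ne_one).1 (bot_lt_iff_ne_bot.1 hp.bot_lt_center)
    apply hz
    have h1 := H.cen T hT z.1 z.1.2 (fun y hy => by
      have := mem_center_iff.1 z.2 ⟨y, hy⟩
      exact (congrArg Subtype.val this).symm)
    exact Subtype.ext (Subtype.ext h1)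
  have hd : ∀ k, k < 13 → ∃ d, (∀ y ∈ T, Commute d y) ∧ (u * x) ^ (k + 1) * (x ^ (k + 1))⁻¹ = u * d := by
    intro k
    induction k with
    | zero => exact fun _ => ⟨1, fun y _ => Commute.one_left y, by group⟩
    | succ k ih =>
      intro hk
      obtain ⟨d, h1, h2⟩ := ih (by omega)
      refine ⟨d * (x ^ (k + 1) * u * (x ^ (k + 1))⁻¹), fun y hy => (h1 y hy).mul_left ?_, ?_⟩
      · have h3 : x ^ (k + 1) * u * (x ^ (k + 1))⁻¹ ∈ cj (x ^ (k + 1)) T := conj_mem_cj.2 huT
        exact H.comm _ (mem_minSet_cj hT _) T hT (hpow (k + 1) (by omega) (by omega)) _ h3 y hy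
      · rw [← mul_assoc, ← h2, pow_succ (u * x) (k + 1), pow_succ x (k + 1)]
        group
  obtain ⟨d, hd1, hd2⟩ := hd 12 (by decide)
  rw [C.x13, inv_one, mul_one] at hd2
  have h3 : Commute (u * d) u := (Commute.refl u).mul_left (hd1 u huT)
  have h4 : Commute (u * d) (u * x) := by
    rw [← hd2]
    exact (Commute.refl (u * x)).pow_left 13
  have h5 : (u * d) * x = x * (u * d) := by
    have h6 : Commute (u * d) (u⁻¹ * (u * x)) := h3.inv_right.mul_right h4
    rw [inv_mul_cancel_left] at h6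
    exact h6.eq
  have h6 := C.pow h5
  rw [(hd1 u huT).symm.mul_pow] at h6
  apply hu
  refine H.cen T hT _ (pow_mem huT 169) fun y hy => ?_
  rw [mul_eq_one_iff_eq_inv.1 h6]
  exact ((hd1 y hy).pow_left 169).inv_left

/-- the subgroup `⟨x, w x w⁻¹⟩` -/
def HH (x w : G) : Subgroup G := closure {x, w * x * w⁻¹}

omit [Finite G] in
theorem x_mem_HH : x ∈ HH x w := subset_closure (Set.mem_insert _ _)

omit [Finite G] in
theorem w_mem_HH (C : Rel2 x t w) : w ∈ HH x w :=
  C.w_mem x_mem_HH (subset_closure (Set.mem_insert_of_mem _ rfl))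

omit [Finite G] in
theorem t_mem_HH (C : Rel2 x t w) : t ∈ HH x w := C.t_mem x_mem_HH (w_mem_HH C)

omit [Finite G] in
theorem HH_perfect (C : Rel2 x t w) : ⁅HH x w, HH x w⁆ = HH x w := by
  apply le_antisymm (commutator_le_self _)
  have hx : x ∈ ⁅HH x w, HH x w⁆ := by
    have h1 := commutator_mem_commutator (t_mem_HH C) (x_mem_HH (x := x) (w := w))
    have h2 : ⁅t, x⁆ = x ^ 3 := by
      rw [commutatorElement_def, C.tx, pow_succ, mul_inv_cancel_right]
    rw [h2] at h1
    have h3 : x = (x ^ 3) ^ 9 := by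
      rw [← pow_mul]
      calc x = (x ^ 13) ^ 2 * x := by rw [C.x13, one_pow, one_mul]
        _ = x ^ (3 * 9) := by rw [← pow_mul, ← pow_succ]
    have h4 := pow_mem h1 9
    rwa [← h3] at h4
  refine (closure_le _).2 ?_
  rintro _ (rfl | rfl)
  · exact hx
  · have h1 : HH x w ≤ normalizer ((⁅HH x w, HH x w⁆ : Subgroup G) : Set G) := by
      intro g hg
      rw [mem_normalizer_iff_cj]
      have h2 : cj g ⁅HH x w, HH x w⁆ = ⁅cj g (HH x w), cj g (HH x w)⁆ := map_commutator _ _ _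
      rw [h2, cj_eq_of_mem hg]
    exact (mem_normalizer_iff.1 (h1 (w_mem_HH C)) x).1 hx

/-- `⟨x, w x w⁻¹⟩` acts on the simple factors by inner automorphisms -/
theorem Cond.inner (C : Cond x t w) {N : Subgroup G} [N.Normal] (H : NStr N) {T : Subgroup G} (hT : T ∈ minSet N)
    (hS : Sch T) {g : G} (hg : g ∈ HH x w) : ∃ a ∈ T, ∀ y ∈ T, g * y * g⁻¹ = a * y * a⁻¹ := by
  have hle : HH x w ≤ normalizer (T : Set G) := by
    refine (closure_le _).2 ?_
    rintro _ (rfl | rfl)
    · exact mem_normalizer_iff_cj.2 (C.cj_eq H hT)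
    · apply mem_normalizer_iff_cj.2
      rw [cj_mul, cj_mul, C.cj_eq H (mem_minSet_cj hT w⁻¹), cj_cj_inv]
  have hperf := HH_perfect C.toRel2
  have h1 : ⁅(HH x w).subgroupOf (normalizer (T : Set G)), (HH x w).subgroupOf (normalizer (T : Set G))⁆ =
      (HH x w).subgroupOf (normalizer (T : Set G)) := by
    apply Subgroup.map_injective (normalizer (T : Set G)).subtype_injective
    rw [map_commutator, subgroupOf_map_subtype, inf_of_le_left hle, hperf]
  have h2 := hS _ (map_perfect T.normalizerMonoidHom h1)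
  have h3 : T.normalizerMonoidHom ⟨g, hle hg⟩ ∈ (MulAut.conj : T →* MulAut T).range :=
    h2 ⟨⟨g, hle hg⟩, hg, rfl⟩
  obtain ⟨a, ha⟩ := h3
  refine ⟨a, a.2, fun y hy => ?_⟩
  have h4 := congrArg Subtype.val (DFunLike.congr_fun ha ⟨y, hy⟩)
  exact h4.symm

/-- **nonabelian minimal normal subgroups** -/
theorem Cond.nonab (C : Cond x t w) (N : Subgroup G) [N.Normal]
    (hmin : ∀ M : Subgroup G, M.Normal → M ≤ N → M = ⊥ ∨ M = N) (hna : ¬ ∀ a ∈ N, ∀ b ∈ N, Commute a b)
    (hS : ∀ T : Subgroup G, IsSimpleGroup T → (∀ z ∈ T, (∀ y ∈ T, Commute z y) → z = 1) → Sch T) :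
    IsSimpleGroup N ∧ x ∈ N ∧ w ∈ N ∧ centralizer (N : Set G) = ⊥ := by
  have H := NStr.of N hmin hna
  -- each factor contains `x` or is centralised by `x`
  have key : ∀ T ∈ minSet N, x ∈ T ∨ ∀ y ∈ T, Commute x y := by
    intro T hT
    have hST := hS T (H.simple T hT) (H.cen T hT)
    obtain ⟨a, ha, ha'⟩ := C.inner H hT hST x_mem_HH
    obtain ⟨c, hc, hc'⟩ := C.inner H hT hST (t_mem_HH C.toRel2)
    have hb : ∀ y ∈ T, Commute (a⁻¹ * x) y := by
      intro y hy
      have h1 := ha' y hy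
      show a⁻¹ * x * y = y * (a⁻¹ * x)
      calc a⁻¹ * x * y = a⁻¹ * (x * y * x⁻¹) * x := by group
        _ = y * (a⁻¹ * x) := by rw [h1]; group
    have hd : ∀ y ∈ T, Commute (c⁻¹ * t) y := by
      intro y hy
      have h1 := hc' y hy
      show c⁻¹ * t * y = y * (c⁻¹ * t)
      calc c⁻¹ * t * y = c⁻¹ * (t * y * t⁻¹) * t := by group
        _ = y * (c⁻¹ * t) := by rw [h1]; group
    set b := a⁻¹ * x with hbdef
    set d := c⁻¹ * t with hddef
    have hxab : x = a * b := by rw [hbdef]; group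
    have htcd : t = c * d := by rw [hddef]; group
    have hab : Commute a b := (hb a ha).symm
    have hinter : ∀ {p q : G}, p ∈ T → (∀ y ∈ T, Commute q y) → p * q = 1 → p = 1 ∧ q = 1 := by
      intro p q hp hq hpq
      have h1 : p = 1 := by
        refine H.cen T hT p hp fun y hy => ?_
        rw [mul_eq_one_iff_eq_inv.1 hpq]
        exact (hq y hy).inv_left
      rw [h1, one_mul] at hpq
      exact ⟨h1, hpq⟩
    have hx13 : a ^ 13 = 1 ∧ b ^ 13 = 1 := by
      apply hinter (pow_mem ha 13) (fun y hy => (hb y hy).pow_left 13)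
      rw [← hab.mul_pow, ← hxab, C.x13]
    -- `c a c⁻¹ = a ^ 4`, `d b d⁻¹ = b ^ 4`
    have h4 : (a ^ 4)⁻¹ * (c * a * c⁻¹) = 1 ∧ (d * b * d⁻¹) * (b ^ 4)⁻¹ = 1 := by
      apply hinter
      · exact mul_mem (inv_mem (pow_mem ha 4)) (mul_mem (mul_mem hc ha) (inv_mem hc))
      · intro y hy
        exact (((hd y hy).mul_left (hb y hy)).mul_left (hd y hy).inv_left).mul_left ((hb y hy).pow_left 4).inv_left
      · have e1 : c * a * c⁻¹ * (d * b * d⁻¹) = a ^ 4 * b ^ 4 := by
          have e2 : Commute d a := hd a ha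
          have e3 : Commute d c := hd c hc
          have e4 : Commute b c := hb c hc
          rw [← hab.mul_pow, ← hxab, ← C.tx]
          conv_rhs => rw [hxab, htcd]
          calc c * a * c⁻¹ * (d * b * d⁻¹) = c * a * (c⁻¹ * (d * b * d⁻¹)) := by group
            _ = c * a * ((d * b * d⁻¹) * c⁻¹) := by
                rw [(((e3.mul_left e4).mul_left e3.inv_left).inv_right.eq).symm]
            _ = c * (a * d) * b * d⁻¹ * c⁻¹ := by group
            _ = c * (d * a) * b * d⁻¹ * c⁻¹ := by rw [e2.eq]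
            _ = c * d * (a * b) * (c * d)⁻¹ := by group
        calc (a ^ 4)⁻¹ * (c * a * c⁻¹) * (d * b * d⁻¹ * (b ^ 4)⁻¹) =
            (a ^ 4)⁻¹ * (c * a * c⁻¹ * (d * b * d⁻¹)) * (b ^ 4)⁻¹ := by group
          _ = 1 := by rw [e1]; group
    have h5 : c * a * c⁻¹ = a ^ 4 := (inv_mul_eq_one.1 h4.1).symm
    have h6 : d * b * d⁻¹ = b ^ 4 := mul_inv_eq_one.1 h4.2
    by_cases ha1 : a = 1
    · right
      intro y hy
      have := hb y hy
      rwa [hbdef, ha1, inv_one, one_mul] at this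
    left
    have ho : orderOf a = 13 := orderOf_eq_prime (hp := ⟨by decide⟩) hx13.1 ha1
    have h7 := C.rat a ho (isConj_iff.2 ⟨c, h5⟩)
    have h8 : d * b = b * d := congrArg Subtype.val (comm_of_dvd h7
      (⟨d, mem_centralizer_singleton_iff.2 (hd a ha).eq⟩ : centralizer ({a} : Set G))
      ⟨b, mem_centralizer_singleton_iff.2 (hb a ha).eq⟩)
    have h9 : b = 1 := by
      rw [h8, mul_inv_cancel_right] at h6
      have h10 : b ^ 3 = 1 := by
        have : b * b ^ 3 = b * 1 := by rw [mul_one, ← pow_succ', ← h6]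
        exact mul_left_cancel this
      calc b = b ^ 13 * ((b ^ 3) ^ 4)⁻¹ := by rw [← pow_mul, pow_succ]; group
        _ = 1 := by rw [hx13.2, h10, one_pow, inv_one, one_mul]
    rw [hxab, h9, mul_one]
    exact ha
  -- some factor contains `x`
  obtain ⟨T, hT, hxT⟩ : ∃ T ∈ minSet N, x ∈ T := by
    by_contra hcon
    push Not at hcon
    have h1 : x ∈ centralizer (N : Set G) := by
      have h2 : N ≤ centralizer {x} := by
        conv_lhs => rw [← H.gen]
        refine sSup_le fun T hT y hy => mem_centralizer_singleton_iff.2 ?_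
        exact (((key T hT).resolve_left (hcon T hT)) y hy).symm.eq
      rw [mem_centralizer_iff]
      intro y hy
      exact mem_centralizer_singleton_iff.1 (h2 hy)
    have h2 : w * x * w⁻¹ ∈ centralizer (N : Set G) := (inferInstance : (centralizer (N : Set G)).Normal).conj_mem x h1 w
    have h3 := C.w_mem h1 h2
    obtain ⟨T, hT⟩ := H.nonempty
    obtain ⟨y, hy⟩ := (Subgroup.ne_bot_iff_exists_ne_one).1 hT.2.1
    apply hy
    have hyN : (y : G) ∈ N := hT.1 y.2
    exact Subtype.ext (C.cent (mem_centralizer_iff.1 h1 y hyN) (mem_centralizer_iff.1 h3 y hyN))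
  have hwT : w ∈ T := by
    by_cases he : cj w T = T
    · refine C.w_mem hxT ?_
      rw [← he]
      exact conj_mem_cj.2 hxT
    · exfalso
      have h1 := H.comm _ (mem_minSet_cj hT w) T hT he _ (conj_mem_cj.2 hxT) x hxT
      have h2 : w ∈ centralizer ({x} : Set G) :=
        C.w_mem (mem_centralizer_singleton_iff.2 rfl) (mem_centralizer_singleton_iff.2 h1.eq)
      have h3 := C.t_mem (mem_centralizer_singleton_iff.2 rfl : x ∈ centralizer ({x} : Set G)) h2
      have h4 := C.tx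
      rw [mem_centralizer_singleton_iff.1 h3, mul_inv_cancel_right] at h4
      apply C.x1
      have h10 : x ^ 3 = 1 := by
        have : x * x ^ 3 = x * 1 := by rw [mul_one, ← pow_succ', ← h4]
        exact mul_left_cancel this
      calc x = x ^ 13 * ((x ^ 3) ^ 4)⁻¹ := by rw [← pow_mul, pow_succ]; group
        _ = 1 := by rw [C.x13, h10, one_pow, inv_one, one_mul]
  have hone : ∀ S ∈ minSet N, S = T := by
    intro S hS
    by_contra hne
    obtain ⟨y, hy⟩ := (Subgroup.ne_bot_iff_exists_ne_one).1 hS.2.1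
    apply hy
    exact Subtype.ext (C.cent (H.comm S hS T hT hne y y.2 x hxT).eq (H.comm S hS T hT hne y y.2 w hwT).eq)
  have hNT : N = T := by
    rw [← H.gen]
    apply le_antisymm
    · exact sSup_le fun S hS => le_of_eq (hone S hS)
    · exact le_sSup hT
  subst hNT
  refine ⟨H.simple _ hT, hxT, hwT, ?_⟩
  rw [eq_bot_iff]
  intro g hg
  rw [mem_centralizer_iff] at hg
  exact mem_bot.2 (C.cent (hg x hxT).symm (hg w hwT).symm)

end Nonab

end Cfsg.Agent.H762.ReeEight
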