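import Cfsg.Agent.H762.ReeEightA

/-!
helper762 (task A of S5936): overgroups of `PGL₂(13)` in `²F₄(8)`: abelian minimal normal subgroups.
-/

set_option autoImplicit false

namespace Cfsg.Agent.H762.ReeEight

open Subgroup Cfsg.Agent.H857.Ree8 Cfsg.Agent.Lib.MinNormalNonabelian Cfsg.Agent.Lib.MinNormal Cfsg.Agent.Nodes.Reps
open Cfsg.Agent.Schreier.Basic
open scoped commutatorElement

variable {G : Type*} [Group G] {x t w : G}

theorem Rel2.v_sq (h : Rel2 x t w) : t ^ 3 * t ^ 3 = 1 := by rw [← pow_add]; exact h.t6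

theorem Rel2.vx (h : Rel2 x t w) : t ^ 3 * x * (t ^ 3)⁻¹ = x⁻¹ := by
  have key : ∀ k : ℕ, t ^ k * x * (t ^ k)⁻¹ = x ^ 4 ^ k := by
    intro k
    induction k with
    | zero => simp
    | succ k ih =>
      calc t ^ (k + 1) * x * (t ^ (k + 1))⁻¹ = t * (t ^ k * x * (t ^ k)⁻¹) * t⁻¹ := by rw [pow_succ' t k]; group
        _ = (t * x * t⁻¹) ^ 4 ^ k := by rw [ih, conj_pow]
        _ = x ^ 4 ^ (k + 1) := by rw [h.tx, ← pow_mul, ← pow_succ']
  rw [key 3]
  have h1 : x ^ 4 ^ 3 * x = 1 := by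
    rw [← pow_succ]
    have e : 4 ^ 3 + 1 = 13 * 5 := by norm_num
    rw [e, pow_mul, h.x13, one_pow]
  exact eq_inv_of_mul_eq_one_left h1

/-- an element of order 2 inverting `x` -/
theorem comm_sq {v n : G} (hv : v * v = 1) (hvx : v * x * v⁻¹ = x⁻¹) {φ : G → G}
    (hφ : ∀ g m, φ (g * m * g⁻¹) = g * φ m * g⁻¹) (h1 : v * n * v⁻¹ = φ n)
    (h2 : v * (x⁻¹ * n * x) * v⁻¹ = φ (x⁻¹ * n * x)) : n * x ^ 2 = x ^ 2 * n := by
  have hvi : v⁻¹ = v := by rw [inv_eq_iff_mul_eq_one]; exact hv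
  have h3 : φ (x⁻¹ * n * x) = x⁻¹ * φ n * x := by
    have := hφ x⁻¹ n
    rwa [inv_inv] at this
  have h4 : v * x⁻¹ = x * v := by
    calc v * x⁻¹ = (v * x * v⁻¹)⁻¹ * v := by group
      _ = x * v := by rw [hvx, inv_inv]
  have h5 : x * (v * n * v⁻¹) * x⁻¹ = x⁻¹ * (v * n * v⁻¹) * x := by
    calc x * (v * n * v⁻¹) * x⁻¹ = (x * v) * n * (x * v)⁻¹ := by group
      _ = v * (x⁻¹ * n * x) * v⁻¹ := by rw [← h4]; group
      _ = x⁻¹ * (v * n * v⁻¹) * x := by rw [h2, h3, h1]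
  have h6 : (v * n * v⁻¹) * x ^ 2 = x ^ 2 * (v * n * v⁻¹) := by
    calc (v * n * v⁻¹) * x ^ 2 = x * (x⁻¹ * (v * n * v⁻¹) * x) * x := by rw [pow_two]; group
      _ = x * (x * (v * n * v⁻¹) * x⁻¹) * x := by rw [h5]
      _ = _ := by rw [pow_two]; group
  have h7 : v * x ^ 2 * v⁻¹ = (x ^ 2)⁻¹ := by rw [← conj_pow, hvx, inv_pow]
  have h8 : v⁻¹ * x ^ 2 * v = (x ^ 2)⁻¹ := by
    have : v * x ^ 2 * v⁻¹ = v⁻¹ * x ^ 2 * v := by rw [hvi]
    rw [← this, h7]
  have h9 : n * (x ^ 2)⁻¹ = (x ^ 2)⁻¹ * n := by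
    calc n * (x ^ 2)⁻¹ = v⁻¹ * (v * n * v⁻¹ * x ^ 2) * v := by rw [← h8]; group
      _ = v⁻¹ * (x ^ 2 * (v * n * v⁻¹)) * v := by rw [h6]
      _ = (v⁻¹ * x ^ 2 * v) * n := by group
      _ = _ := by rw [h8]
  calc n * x ^ 2 = x ^ 2 * ((x ^ 2)⁻¹ * n) * x ^ 2 := by group
    _ = x ^ 2 * (n * (x ^ 2)⁻¹) * x ^ 2 := by rw [h9]
    _ = x ^ 2 * n := by group

variable [Finite G]

/-- half of `N` -/
theorem Cond.half (C : Cond x t w) (N A : Subgroup G) [N.Normal] (hAN : A ≤ N) (hN : ∀ n ∈ N, n * x = x * n → n = 1)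
    {φ : G → G} (hφ : ∀ g m, φ (g * m * g⁻¹) = g * φ m * g⁻¹)
    (hA : ∀ a ∈ A, t ^ 3 * a * (t ^ 3)⁻¹ = φ a) : Nat.card A * Nat.card A ≤ Nat.card N := by
  let f : A × A → N := fun p => ⟨(p.1 : G) * (x * p.2 * x⁻¹),
    mul_mem (hAN p.1.2) ((inferInstance : N.Normal).conj_mem _ (hAN p.2.2) x)⟩
  have hf : Function.Injective f := by
    rintro ⟨a, b⟩ ⟨c, d⟩ hab
    have h1 : (a : G) * (x * b * x⁻¹) = c * (x * d * x⁻¹) := congrArg Subtype.val hab
    have h2 : (c : G)⁻¹ * a = x * ((d : G) * (b : G)⁻¹) * x⁻¹ := by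
      calc (c : G)⁻¹ * a = (c : G)⁻¹ * (a * (x * b * x⁻¹)) * (x * (b : G)⁻¹ * x⁻¹) := by group
        _ = _ := by rw [h1]; group
    have hm1 : (c : G)⁻¹ * a ∈ A := mul_mem (inv_mem c.2) a.2
    have hm2 : (d : G) * (b : G)⁻¹ ∈ A := mul_mem d.2 (inv_mem b.2)
    have h3 : x⁻¹ * ((c : G)⁻¹ * a) * x = (d : G) * (b : G)⁻¹ := by rw [h2]; group
    have h4 := comm_sq C.v_sq C.vx hφ (hA _ hm1) (by rw [h3]; exact hA _ hm2)
    have h5 : (c : G)⁻¹ * a * x = x * ((c : G)⁻¹ * a) := by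
      have h6 : Commute ((c : G)⁻¹ * a) ((x ^ 2) ^ 7) := (show Commute ((c : G)⁻¹ * a) (x ^ 2) from h4).pow_right 7
      have h7 : (x ^ 2) ^ 7 = x := by
        rw [← pow_mul]
        calc x ^ (2 * 7) = x ^ 13 * x := by rw [← pow_succ]
          _ = x := by rw [C.x13, one_mul]
      rw [h7] at h6
      exact h6.eq
    have h6 := hN _ (hAN hm1) h5
    have h7 : c = a := Subtype.ext (inv_mul_eq_one.1 h6)
    have h8 : (d : G) * (b : G)⁻¹ = 1 := by rw [← h3, h6]; group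
    have h9 : d = b := Subtype.ext (mul_inv_eq_one.1 h8)
    rw [h7, h9]
  rw [← Nat.card_prod]
  exact Nat.card_le_card_of_injective f hf

omit [Finite G] in
theorem eq_one_of_coprime {g : G} {a b : ℕ} (hab : Nat.Coprime a b) (ha : g ^ a = 1) (hb : g ^ b = 1) : g = 1 := by
  have h1 : orderOf g ∣ Nat.gcd a b := Nat.dvd_gcd (orderOf_dvd_of_pow_eq_one ha) (orderOf_dvd_of_pow_eq_one hb)
  rw [hab.gcd_eq_one, Nat.dvd_one, orderOf_eq_one_iff] at h1
  exact h1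

/-- no minimal normal subgroup of order 27 -/
theorem Cond.not27 (C : Cond x t w) (N : Subgroup G) [N.Normal] (hab : ∀ a ∈ N, ∀ b ∈ N, Commute a b)
    (hN : ∀ n ∈ N, n * x = x * n → n = 1) (h3 : ∀ n ∈ N, n ^ 3 = 1) (hcard : Nat.card N = 27) : False := by
  let A : Subgroup G := N ⊓ centralizer {t ^ 3}
  let B : Subgroup G :=
    { carrier := {n | n ∈ N ∧ t ^ 3 * n * (t ^ 3)⁻¹ = n⁻¹}
      one_mem' := ⟨one_mem _, by group⟩
      mul_mem' := by
        rintro a b ⟨ha, ha'⟩ ⟨hb, hb'⟩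
        refine ⟨mul_mem ha hb, ?_⟩
        calc t ^ 3 * (a * b) * (t ^ 3)⁻¹ = (t ^ 3 * a * (t ^ 3)⁻¹) * (t ^ 3 * b * (t ^ 3)⁻¹) := by group
          _ = a⁻¹ * b⁻¹ := by rw [ha', hb']
          _ = (b * a)⁻¹ := by group
          _ = (a * b)⁻¹ := by rw [(hab a ha b hb).eq]
      inv_mem' := by
        rintro a ⟨ha, ha'⟩
        refine ⟨inv_mem ha, ?_⟩
        calc t ^ 3 * a⁻¹ * (t ^ 3)⁻¹ = (t ^ 3 * a * (t ^ 3)⁻¹)⁻¹ := by group
          _ = a⁻¹⁻¹ := by rw [ha'] }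
  have hA := C.half N A inf_le_left hN (φ := fun n => n) (fun g m => rfl) (fun a ha => by
    have h1 := mem_centralizer_singleton_iff.1 (mem_inf.1 ha).2
    show t ^ 3 * a * (t ^ 3)⁻¹ = a
    rw [← h1, mul_inv_cancel_right])
  have hB := C.half N B (fun n hn => hn.1) hN (φ := fun n => n⁻¹) (fun g m => by group) (fun a ha => ha.2)
  have hconj : ∀ n ∈ N, t ^ 3 * n * (t ^ 3)⁻¹ ∈ N := fun n hn => (inferInstance : N.Normal).conj_mem n hn _
  have hvv : ∀ n : G, t ^ 3 * (t ^ 3 * n * (t ^ 3)⁻¹) * (t ^ 3)⁻¹ = n := by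
    intro n
    calc t ^ 3 * (t ^ 3 * n * (t ^ 3)⁻¹) * (t ^ 3)⁻¹ = (t ^ 3 * t ^ 3) * n * (t ^ 3 * t ^ 3)⁻¹ := by group
      _ = n := by rw [C.v_sq]; group
  let f : N → A × B := fun n => (⟨n * (t ^ 3 * n * (t ^ 3)⁻¹), mem_inf.2 ⟨mul_mem n.2 (hconj n n.2),
      mem_centralizer_singleton_iff.2 (by
        have h1 := (hab _ (hconj n n.2) _ n.2).eq
        have h2 : t ^ 3 * (n * (t ^ 3 * n * (t ^ 3)⁻¹)) * (t ^ 3)⁻¹ = n * (t ^ 3 * n * (t ^ 3)⁻¹) := by
          calc t ^ 3 * (n * (t ^ 3 * n * (t ^ 3)⁻¹)) * (t ^ 3)⁻¹ =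
              (t ^ 3 * n * (t ^ 3)⁻¹) * (t ^ 3 * (t ^ 3 * n * (t ^ 3)⁻¹) * (t ^ 3)⁻¹) := by group
            _ = _ := by rw [hvv, h1]
        calc (n : G) * (t ^ 3 * n * (t ^ 3)⁻¹) * t ^ 3 =
            t ^ 3 * (n * (t ^ 3 * n * (t ^ 3)⁻¹)) * (t ^ 3)⁻¹ * t ^ 3 := by rw [h2]
          _ = _ := by group)⟩⟩,
    ⟨n * (t ^ 3 * n * (t ^ 3)⁻¹)⁻¹, mul_mem n.2 (inv_mem (hconj n n.2)), by
      have h1 := (hab _ (hconj n n.2) _ n.2).eq
      calc t ^ 3 * (n * (t ^ 3 * n * (t ^ 3)⁻¹)⁻¹) * (t ^ 3)⁻¹ =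
          (t ^ 3 * n * (t ^ 3)⁻¹) * (t ^ 3 * (t ^ 3 * n * (t ^ 3)⁻¹) * (t ^ 3)⁻¹)⁻¹ := by group
        _ = (n * (t ^ 3 * n * (t ^ 3)⁻¹)⁻¹)⁻¹ := by rw [hvv]; group⟩)
  have hf : Function.Injective f := by
    intro n m hnm
    have h1 : (n : G) * (t ^ 3 * n * (t ^ 3)⁻¹) = m * (t ^ 3 * m * (t ^ 3)⁻¹) :=
      congrArg (fun p : A × B => (p.1 : G)) hnm
    have h2 : (n : G) * (t ^ 3 * n * (t ^ 3)⁻¹)⁻¹ = m * (t ^ 3 * m * (t ^ 3)⁻¹)⁻¹ :=
      congrArg (fun p : A × B => (p.2 : G)) hnm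
    have key : ∀ p : N, (p : G) * (t ^ 3 * p * (t ^ 3)⁻¹) * (p * (t ^ 3 * p * (t ^ 3)⁻¹)⁻¹) = p ^ 2 := by
      intro p
      have h3 := (hab _ (hconj p p.2) _ p.2).eq
      calc (p : G) * (t ^ 3 * p * (t ^ 3)⁻¹) * (p * (t ^ 3 * p * (t ^ 3)⁻¹)⁻¹) =
          p * (t ^ 3 * p * (t ^ 3)⁻¹ * p) * (t ^ 3 * p * (t ^ 3)⁻¹)⁻¹ := by group
        _ = p * (p * (t ^ 3 * p * (t ^ 3)⁻¹)) * (t ^ 3 * p * (t ^ 3)⁻¹)⁻¹ := by rw [h3]
        _ = p ^ 2 := by rw [pow_two]; group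
    have h4 : (n : G) ^ 2 = (m : G) ^ 2 := by rw [← key n, ← key m, h1, h2]
    have h5 : ∀ p : N, (p : G) = ((p : G) ^ 2) ^ 2 := by
      intro p
      rw [← pow_mul]
      calc (p : G) = (p : G) ^ 3 * p := by rw [h3 p p.2, one_mul]
        _ = (p : G) ^ (2 * 2) := by rw [← pow_succ]
    apply Subtype.ext
    rw [h5 n, h5 m, h4]
  have hN2 := Nat.card_le_card_of_injective f hf
  rw [Nat.card_prod] at hN2
  rw [hcard] at hA hB hN2
  have hA5 : Nat.card A ≤ 5 := by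
    by_contra hcon
    have : 6 * 6 ≤ Nat.card A * Nat.card A := Nat.mul_le_mul (by omega) (by omega)
    omega
  have hB5 : Nat.card B ≤ 5 := by
    by_contra hcon
    have : 6 * 6 ≤ Nat.card B * Nat.card B := Nat.mul_le_mul (by omega) (by omega)
    omega
  have := Nat.mul_le_mul hA5 hB5
  omega

/-- the order of `²F₄(8)` -/
def NN8 : ℕ := 2 ^ 36 * 3 ^ 5 * 5 ^ 2 * 7 ^ 2 * 13 ^ 2 * 19 * 37 * 109

theorem prime_of_dvd {p : ℕ} (hp : p.Prime) (h : p ∣ NN8) :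
    p = 2 ∨ p = 3 ∨ p = 5 ∨ p = 7 ∨ p = 13 ∨ p = 19 ∨ p = 37 ∨ p = 109 := by
  unfold NN8 at h
  have key : ∀ q : ℕ, q.Prime → p ∣ q → p = q := fun q hq h => (Nat.prime_dvd_prime_iff_eq hp hq).1 h
  rcases (hp.dvd_mul).1 h with h | h
  · rcases (hp.dvd_mul).1 h with h | h
    · rcases (hp.dvd_mul).1 h with h | h
      · rcases (hp.dvd_mul).1 h with h | h
        · rcases (hp.dvd_mul).1 h with h | h
          · rcases (hp.dvd_mul).1 h with h | h
            · rcases (hp.dvd_mul).1 h with h | h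
              · exact Or.inl (key 2 (by norm_num) (hp.dvd_of_dvd_pow h))
              · have := key 3 (by norm_num) (hp.dvd_of_dvd_pow h)
                tauto
            · have := key 5 (by norm_num) (hp.dvd_of_dvd_pow h)
              tauto
          · have := key 7 (by norm_num) (hp.dvd_of_dvd_pow h)
            tauto
        · have := key 13 (by norm_num) (hp.dvd_of_dvd_pow h)
          tauto
      · have := key 19 (by norm_num) h
        tauto
    · have := key 37 (by norm_num) h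
      tauto
  · have := key 109 (by norm_num) h
    tauto

theorem eq_27 {p k : ℕ} (hp : p.Prime) (h2 : p ≠ 2) (h13 : p ≠ 13) (h : p ^ k ∣ NN8) (hk : k ≠ 0)
    (hm : p ^ k % 13 = 1) : p = 3 ∧ k = 3 := by
  have hb : ∀ {q m : ℕ}, ¬ q ^ (m + 1) ∣ NN8 → q ^ k ∣ NN8 → k ≤ m := by
    intro q m h1 h2
    by_contra hcon
    exact h1 ((pow_dvd_pow q (by omega)).trans h2)
  rcases prime_of_dvd hp ((dvd_pow_self p hk).trans h) with rfl | rfl | rfl | rfl | rfl | rfl | rfl | rfl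
  · exact absurd rfl h2
  · have := hb (q := 3) (m := 5) (by decide +kernel) h
    interval_cases k <;> simp_all
  · have := hb (q := 5) (m := 2) (by decide +kernel) h
    interval_cases k <;> simp_all
  · have := hb (q := 7) (m := 2) (by decide +kernel) h
    interval_cases k <;> simp_all
  · exact absurd rfl h13
  · have := hb (q := 19) (m := 1) (by decide +kernel) h
    interval_cases k <;> simp_all
  · have := hb (q := 37) (m := 1) (by decide +kernel) h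
    interval_cases k <;> simp_all
  · have := hb (q := 109) (m := 1) (by decide +kernel) h
    interval_cases k <;> simp_all

/-- **abelian minimal normal subgroups** -/
theorem Cond.abel (C : Cond x t w) (hG : Nat.card G ∣ NN8) (N : Subgroup G) [hNn : N.Normal] (hN : N ≠ ⊥)
    (hmin : ∀ M : Subgroup G, M.Normal → M ≤ N → M = ⊥ ∨ M = N) (hab : ∀ a ∈ N, ∀ b ∈ N, Commute a b)
    (h2 : ∀ N : Subgroup G, N.Normal → (∀ a ∈ N, a * a = 1) → N = ⊥) : False := by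
  obtain ⟨p, hp, hpg, hpp⟩ := abelian_structure N hN hmin hab
  by_cases hp2 : p = 2
  · subst hp2
    exact hN (h2 N hNn fun a ha => by rw [← pow_two]; exact hpp a ha)
  have hf13 : Fact (Nat.Prime 13) := ⟨by norm_num⟩
  by_cases hp13 : p = 13
  · subst hp13
    -- a Sylow subgroup containing `x`
    have hxp : IsPGroup 13 (zpowers x) := by
      apply IsPGroup.of_card_dvd_pow (n := 1)
      rw [Nat.card_zpowers, pow_one]
      exact orderOf_dvd_of_pow_eq_one C.x13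
    obtain ⟨Q, hQ⟩ := hxp.exists_le_sylow
    have hNQ : N ≤ Q := hpg.le_sylow_of_normal Q
    have hQc : Nat.card Q ∣ 169 := by
      obtain ⟨k, hk⟩ := (IsPGroup.iff_card (p := 13)).1 Q.isPGroup'
      have h1 : k ≤ 2 := by
        by_contra hcon
        apply C.c3
        refine (pow_dvd_pow 13 (show 3 ≤ k by omega)).trans ?_
        rw [← hk]
        exact card_subgroup_dvd_card _
      rw [hk]
      exact pow_dvd_pow 13 h1
    have hcx : ∀ n ∈ N, n * x = x * n := fun n hn =>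
      congrArg Subtype.val (comm_of_dvd hQc ⟨n, hNQ hn⟩ ⟨x, hQ (mem_zpowers x)⟩)
    obtain ⟨n, hn⟩ := (Subgroup.ne_bot_iff_exists_ne_one).1 hN
    apply hn
    have h3 : x ∈ centralizer ({(n : G)} : Set G) := mem_centralizer_singleton_iff.2 (hcx n n.2).symm
    have h4 : w * x * w⁻¹ ∈ centralizer ({(n : G)} : Set G) := by
      apply mem_centralizer_singleton_iff.2
      have h5 := hcx _ (hNn.conj_mem n n.2 w⁻¹)
      rw [inv_inv] at h5
      calc w * x * w⁻¹ * n = w * (x * (w⁻¹ * n * w)) * w⁻¹ := by group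
        _ = w * (w⁻¹ * n * w * x) * w⁻¹ := by rw [h5]
        _ = n * (w * x * w⁻¹) := by group
    have h5 := C.w_mem h3 h4
    exact Subtype.ext (C.cent (hcx n n.2) (mem_centralizer_singleton_iff.1 h5).symm)
  · have hNx : ∀ n ∈ N, n * x = x * n → n = 1 := by
      intro n hn hc
      refine eq_one_of_coprime (a := 169) (b := p) ?_ (C.pow hc) (hpp n hn)
      have : Nat.Coprime (13 ^ 2) p := Nat.Coprime.pow_left 2 ((Nat.coprime_primes (by norm_num) hp).2 (Ne.symm hp13))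
      exact this
    have hfp : Fact p.Prime := ⟨hp⟩
    obtain ⟨k, hk⟩ := (IsPGroup.iff_card (p := p)).1 hpg
    have hk0 : k ≠ 0 := by
      rintro rfl
      rw [pow_zero] at hk
      exact hN (Subgroup.card_eq_one.1 hk)
    -- `x` acts without fixed points
    have hxp : IsPGroup 13 (zpowers x) := by
      apply IsPGroup.of_card_dvd_pow (n := 1)
      rw [Nat.card_zpowers, pow_one]
      exact orderOf_dvd_of_pow_eq_one C.x13
    have hmod : Nat.card N ≡ 1 [MOD 13] := by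
      let act : MulAction (zpowers x) N := MulAction.compHom N ((MulAut.conjNormal (H := N)).comp (zpowers x).subtype)
      have h1 := hxp.card_modEq_card_fixedPoints (α := N)
      have h3 : Nat.card (MulAction.fixedPoints (zpowers x) N) = 1 := by
        rw [Nat.card_eq_one_iff_unique]
        refine ⟨⟨fun a b => ?_⟩, ⟨⟨1, fun g => ?_⟩⟩⟩
        · have key : ∀ c : MulAction.fixedPoints (zpowers x) N, (c : N) = 1 := by
            intro c
            apply Subtype.ext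
            apply hNx _ c.1.2
            have h4 : (⟨x, mem_zpowers x⟩ : zpowers x) • (c : N) = c := c.2 _
            have h5 : x * (c : N) * x⁻¹ = (c : N) := congrArg Subtype.val h4
            calc ((c : N) : G) * x = x * (c : N) * x⁻¹ * x := by rw [h5]
              _ = x * (c : N) := by group
          exact Subtype.ext ((key a).trans (key b).symm)
        · show (MulAut.conjNormal (g : G)) (1 : N) = 1
          exact map_one _
      rwa [h3] at h1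
    have hd : p ^ k ∣ NN8 := by
      rw [← hk]; exact (card_subgroup_dvd_card N).trans hG
    have hm : p ^ k % 13 = 1 := by
      rw [← hk]; exact hmod
    obtain ⟨rfl, rfl⟩ := eq_27 hp hp2 hp13 hd hk0 hm
    exact C.not27 N hab hNx hpp hk

/-- **the socle** -/
theorem Cond.main (C : Cond x t w) (hG : Nat.card G ∣ NN8)
    (h2 : ∀ N : Subgroup G, N.Normal → (∀ a ∈ N, a * a = 1) → N = ⊥)
    (hS : ∀ T : Subgroup G, IsSimpleGroup T → (∀ z ∈ T, (∀ y ∈ T, Commute z y) → z = 1) → Sch T) :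
    ∃ S : Subgroup G, S.Normal ∧ IsSimpleGroup S ∧ x ∈ S ∧ w ∈ S ∧ t ∈ S ∧ centralizer (S : Set G) = ⊥ := by
  have : Nontrivial G := ⟨x, 1, C.x1⟩
  obtain ⟨N, hNn, hN, hmin⟩ := Lib.SubnormalJoin.exists_minimal_normal G
  by_cases hab : ∀ a ∈ N, ∀ b ∈ N, Commute a b
  · exact (C.abel hG N hN hmin hab h2).elim
  · obtain ⟨h1, h3, h4, h5⟩ := C.nonab N hmin hab hS
    exact ⟨N, hNn, h1, h3, h4, C.t_mem h3 h4, h5⟩

end Cfsg.Agent.H762.ReeEight
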