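import Cfsg.Agent.H762.ReeEightB

/-!
helper762 (task A of S5936): overgroups of `PGL₂(13)` in `²F₄(8)`: Sylow 13-subgroups and counting.
-/

set_option autoImplicit false

namespace Cfsg.Agent.H762.ReeEight

open Subgroup Cfsg.Agent.H857.Ree8 Cfsg.Agent.Nodes.Reps

variable {G : Type*} [Group G] {x t w : G}

theorem Rel2.x_sq_ne (h : Rel2 x t w) : x ^ 2 ≠ 1 := by
  intro h1
  apply h.x1
  exact eq_one_of_coprime (a := 2) (b := 13) (by norm_num) h1 h.x13

theorem Rel2.orderOf_x (h : Rel2 x t w) : orderOf x = 13 := orderOf_eq_prime (hp := ⟨by norm_num⟩) h.x13 h.x1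

theorem Rel2.orderOf_t (h : Rel2 x t w) : orderOf t = 6 := by
  have h1 : orderOf t ∣ 6 := orderOf_dvd_of_pow_eq_one h.t6
  have h3 : t ^ 3 ≠ 1 := by
    intro h3
    have := h.vx
    rw [h3, one_mul, inv_one, mul_one] at this
    apply h.x_sq_ne
    rw [pow_two]
    nth_rewrite 2 [this]
    rw [mul_inv_cancel]
  have h2 : t ^ 2 ≠ 1 := by
    intro h2
    have e : x = x ^ 16 := by
      calc x = t ^ 2 * x * (t ^ 2)⁻¹ := by rw [h2]; group
        _ = t * (t * x * t⁻¹) * t⁻¹ := by rw [pow_two]; group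
        _ = (t * x * t⁻¹) ^ 4 := by rw [conj_pow, h.tx]
        _ = x ^ 16 := by rw [h.tx, ← pow_mul]
    apply h.x_sq_ne
    have e2 : x * x ^ 15 = x * 1 := by rw [mul_one, ← pow_succ', ← e]
    have e3 := mul_left_cancel e2
    calc x ^ 2 = x ^ 13 * x ^ 2 := by rw [h.x13, one_mul]
      _ = x ^ 15 := by rw [← pow_add]
      _ = 1 := e3
  have h4 : orderOf t ≠ 1 := fun h4 => h2 (by rw [orderOf_eq_one_iff.1 h4, one_pow])
  have h5 : orderOf t ≠ 2 := fun h5 => h2 (by rw [← h5, pow_orderOf_eq_one])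
  have h6 : orderOf t ≠ 3 := fun h6 => h3 (by rw [← h6, pow_orderOf_eq_one])
  have h7 : orderOf t ≤ 6 := Nat.le_of_dvd (by norm_num) h1
  interval_cases h : orderOf t <;> first | omega | (exfalso; revert h1; decide)

variable [Finite G]

theorem Cond.card_sylow_dvd (C : Cond x t w) (Q : Sylow 13 G) : Nat.card (Q : Subgroup G) ∣ 169 := by
  have hf13 : Fact (Nat.Prime 13) := ⟨by norm_num⟩
  obtain ⟨k, hk⟩ := (IsPGroup.iff_card (p := 13)).1 Q.isPGroup'
  have h1 : k ≤ 2 := by
    by_contra hcon
    apply C.c3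
    refine (pow_dvd_pow 13 (show 3 ≤ k by omega)).trans ?_
    rw [← hk]
    exact card_subgroup_dvd_card _
  rw [hk]
  exact pow_dvd_pow 13 h1

/-- the centralizer of `x` is a Sylow subgroup -/
theorem Cond.exists_sylow (C : Cond x t w) : ∃ Q : Sylow 13 G, (Q : Subgroup G) = centralizer ({x} : Set G) := by
  have hf13 : Fact (Nat.Prime 13) := ⟨by norm_num⟩
  have hP : IsPGroup 13 (centralizer ({x} : Set G)) := IsPGroup.of_card_dvd_pow (n := 2) C.cx
  obtain ⟨Q, hQ⟩ := hP.exists_le_sylow
  refine ⟨Q, le_antisymm (fun q hq => ?_) hQ⟩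
  have hx : x ∈ Q := hQ (mem_centralizer_singleton_iff.2 rfl)
  exact mem_centralizer_singleton_iff.2
    (congrArg Subtype.val (comm_of_dvd (C.card_sylow_dvd Q) ⟨q, hq⟩ ⟨x, hx⟩))

theorem Cond.card_cent (C : Cond x t w) : Nat.card (centralizer ({x} : Set G)) = 13 ∨
    Nat.card (centralizer ({x} : Set G)) = 169 := by
  have h1 : Nat.card (centralizer ({x} : Set G)) ∣ 13 ^ 2 := C.cx
  obtain ⟨k, hk, e⟩ := (Nat.dvd_prime_pow (by norm_num)).1 h1
  rw [e]
  interval_cases k
  · exfalso
    rw [pow_zero] at e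
    have h2 := (Nat.card_eq_one_iff_unique.1 e).1
    exact C.x1 (congrArg Subtype.val (Subsingleton.elim
      (⟨x, mem_centralizer_singleton_iff.2 rfl⟩ : centralizer ({x} : Set G)) 1))
  · left; norm_num
  · right; norm_num

omit [Finite G] in
theorem Cond.cent_eq (h : Nat.card (centralizer ({x} : Set G)) = 13) (hx : orderOf x = 13) :
    centralizer ({x} : Set G) = zpowers x := by
  have hfin : Finite (centralizer ({x} : Set G)) := Nat.finite_of_card_ne_zero (by rw [h]; decide)
  symm
  apply Subgroup.eq_of_le_of_card_ge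
  · rw [zpowers_le]; exact mem_centralizer_singleton_iff.2 rfl
  · rw [h, Nat.card_zpowers, hx]

omit [Finite G] in
/-- an element whose 169-th power is trivial and which normalises `⟨z⟩` centralises `z` -/
theorem comm_of_norm {g z : G} (hz : z ^ 13 = 1) (hg : g ^ 169 = 1) {m : ℕ} (h : g * z * g⁻¹ = z ^ m) :
    g * z = z * g := by
  have key : ∀ k : ℕ, g ^ k * z * (g ^ k)⁻¹ = z ^ m ^ k := by
    intro k
    induction k with
    | zero => simp
    | succ k ih =>
      calc g ^ (k + 1) * z * (g ^ (k + 1))⁻¹ = g * (g ^ k * z * (g ^ k)⁻¹) * g⁻¹ := by rw [pow_succ' g k]; group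
        _ = (g * z * g⁻¹) ^ m ^ k := by rw [ih, conj_pow]
        _ = z ^ m ^ (k + 1) := by rw [h, ← pow_mul, ← pow_succ']
  have h1 := key 169
  rw [hg, one_mul, inv_one, mul_one] at h1
  have hf13 : Fact (Nat.Prime 13) := ⟨by norm_num⟩
  have h2 : (m ^ 169 : ℕ) ≡ m [MOD 13] := by
    rw [← ZMod.natCast_eq_natCast_iff, Nat.cast_pow]
    have e : (169 : ℕ) = 13 * 13 := by norm_num
    rw [e, pow_mul, ZMod.pow_card, ZMod.pow_card]
  have h3 : z ^ m ^ 169 = z ^ m := by
    rw [← pow_mod_orderOf, ← pow_mod_orderOf z m]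
    congr 1
    exact h2.of_dvd (orderOf_dvd_of_pow_eq_one hz)
  rw [← h3, ← h1] at h
  calc g * z = g * z * g⁻¹ * g := by group
    _ = z * g := by rw [h]

theorem Cond.card_norm (C : Cond x t w) : ∃ e, (e ∣ 12 ∧ Nat.card (centralizer ({x} : Set G)) = 13 ∨
      e ∣ 96 ∧ Nat.card (centralizer ({x} : Set G)) = 169) ∧ 6 ∣ e ∧
      Nat.card (normalizer (centralizer ({x} : Set G) : Set G)) = Nat.card (centralizer ({x} : Set G)) * e := by
  set P := centralizer ({x} : Set G) with hP
  set N := normalizer (P : Set G) with hN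
  have hPN : P ≤ N := le_normalizer
  obtain ⟨e, he⟩ := card_dvd_of_le hPN
  have ht : t ∈ N := by
    rw [hN, mem_normalizer_iff]
    have hx4 : ∀ g, g * x = x * g → g * x ^ 4 = x ^ 4 * g := fun g hg => ((show Commute g x from hg).pow_right 4).eq
    have hx4' : ∀ g, g * x ^ 4 = x ^ 4 * g → g * x = x * g := by
      intro g hg
      have h1 : x = (x ^ 4) ^ 10 := by
        rw [← pow_mul]
        calc x = (x ^ 13) ^ 3 * x := by rw [C.x13, one_pow, one_mul]
          _ = x ^ (4 * 10) := by rw [← pow_mul, ← pow_succ]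
      rw [h1]
      exact ((show Commute g (x ^ 4) from hg).pow_right 10).eq
    have h1 : ∀ g, g * x = x * g → t * g * t⁻¹ * x = x * (t * g * t⁻¹) := by
      intro g hg
      apply hx4'
      rw [← C.tx]
      calc t * g * t⁻¹ * (t * x * t⁻¹) = t * (g * x) * t⁻¹ := by group
        _ = t * (x * g) * t⁻¹ := by rw [hg]
        _ = _ := by group
    intro g
    constructor
    · intro hg
      exact mem_centralizer_singleton_iff.2 (h1 g (mem_centralizer_singleton_iff.1 hg))
    · intro hg
      apply mem_centralizer_singleton_iff.2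
      have h3 := hx4 _ (mem_centralizer_singleton_iff.1 hg)
      rw [← C.tx] at h3
      calc g * x = t⁻¹ * (t * g * t⁻¹ * (t * x * t⁻¹)) * t := by group
        _ = t⁻¹ * (t * x * t⁻¹ * (t * g * t⁻¹)) * t := by rw [h3]
        _ = x * g := by group
  have h6 : 6 ∣ Nat.card N := by
    have h1 : orderOf (⟨t, ht⟩ : N) = 6 := by
      rw [← C.orderOf_t]
      exact (orderOf_injective N.subtype N.subtype_injective _).symm
    rw [← h1]
    exact orderOf_dvd_natCard _
  rcases C.card_cent with h13 | h169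
  · -- `N / P` acts on `⟨x⟩`
    have hx13 := C.orderOf_x
    have hPx : P = zpowers x := Cond.cent_eq h13 hx13
    have hcop : Nat.Coprime 6 13 := by norm_num
    have he6 : 6 ∣ e := by
      rw [he, h13] at h6
      exact hcop.dvd_of_dvd_mul_left h6
    refine ⟨e, Or.inl ⟨?_, h13⟩, he6, he⟩
    -- the action
    have hker : P.normalizerMonoidHom.ker = P.subgroupOf N := by
      rw [normalizerMonoidHom_ker]
      have hxP : x ∈ P := mem_centralizer_singleton_iff.2 rfl
      have h1 : centralizer (P : Set G) = P := by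
        apply le_antisymm
        · intro g hg
          exact mem_centralizer_singleton_iff.2 (mem_centralizer_iff.1 hg x hxP).symm
        · intro g hg
          exact mem_centralizer_iff.2 fun k hk =>
            C.comm (mem_centralizer_singleton_iff.1 hk) (mem_centralizer_singleton_iff.1 hg)
      rw [h1]
    have h1 : Nat.card (N ⧸ P.normalizerMonoidHom.ker) ∣ Nat.card (MulAut P) :=
      card_dvd_of_injective _ (QuotientGroup.kerLift_injective P.normalizerMonoidHom)
    have h2 : Nat.card (MulAut P) = 12 := by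
      have hf13 : Fact (Nat.Prime 13) := ⟨by norm_num⟩
      have hcyc : IsCyclic P := isCyclic_of_prime_card (p := 13) h13
      rw [IsCyclic.card_mulAut, h13]
      decide
    rw [h2, hker] at h1
    have h3 := card_eq_card_quotient_mul_card_subgroup (P.subgroupOf N)
    have h4 : Nat.card (P.subgroupOf N) = 13 := by
      rw [Nat.card_congr (subgroupOfEquivOfLe hPN).toEquiv]; exact h13
    rw [h4, he, h13] at h3
    have h5 : e = Nat.card (N ⧸ P.subgroupOf N) := by omega
    rw [h5]; exact h1
  · have hcop : Nat.Coprime 6 169 := by norm_num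
    have he6 : 6 ∣ e := by
      rw [he, h169] at h6
      exact hcop.dvd_of_dvd_mul_left h6
    refine ⟨e, Or.inr ⟨?_, h169⟩, he6, he⟩
    have h1 := C.cn h169
    rw [← hP, ← hN, he, h169] at h1
    exact Nat.dvd_of_mul_dvd_mul_left (by norm_num) h1

/-- the condition on the order -/
def Pn (n : ℕ) : Bool :=
  n % 1092 == 0 && [78, 156, 1014, 2028, 4056, 8112, 16224].any (fun k => n % k == 0 && n / k % 13 == 1)

/-- **Sylow's theorem** -/
theorem Cond.count (C : Cond x t w) (h : 1092 ∣ Nat.card G) : Pn (Nat.card G) = true := by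
  have hf13 : Fact (Nat.Prime 13) := ⟨by norm_num⟩
  obtain ⟨e, he, h6, hN⟩ := C.card_norm
  obtain ⟨Q, hQ⟩ := C.exists_sylow
  have h1 := Q.card_eq_index_normalizer
  have h2 := card_sylow_modEq_one 13 G
  rw [h1] at h2
  replace h2 : (normalizer ((Q : Subgroup G) : Set G)).index ≡ 1 [MOD 13] := h2
  rw [hQ] at h2
  have h3 := (normalizer (centralizer ({x} : Set G) : Set G)).card_mul_index
  set m := (normalizer (centralizer ({x} : Set G) : Set G)).index with hm
  have h4 : m % 13 = 1 := h2
  have h5 : 0 < Nat.card (normalizer (centralizer ({x} : Set G) : Set G)) := Nat.card_pos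
  have hk : Nat.card (normalizer (centralizer ({x} : Set G) : Set G)) ∈ [78, 156, 1014, 2028, 4056, 8112, 16224] := by
    rw [hN]
    obtain ⟨f, rfl⟩ := h6
    rcases he with ⟨he, hc⟩ | ⟨he, hc⟩ <;> rw [hc]
    · have h7 : f ∣ 2 := Nat.dvd_of_mul_dvd_mul_left (by norm_num : 0 < 6) he
      have h8 : f ≤ 2 := Nat.le_of_dvd (by norm_num) h7
      interval_cases f
      · simp at h7
      · simp
      · simp
    · have h7 : f ∣ 16 := Nat.dvd_of_mul_dvd_mul_left (by norm_num : 0 < 6) he
      have h8 : f ∣ 2 ^ 4 := h7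
      obtain ⟨k, hk, rfl⟩ := (Nat.dvd_prime_pow (by norm_num)).1 h8
      interval_cases k <;> simp
  unfold Pn
  rw [Bool.and_eq_true, List.any_eq_true]
  refine ⟨by simpa using Nat.mod_eq_zero_of_dvd h, _, hk, ?_⟩
  rw [← h3, Bool.and_eq_true, beq_iff_eq, beq_iff_eq, Nat.mul_mod_right, Nat.mul_div_cancel_left _ h5]
  exact ⟨rfl, h4⟩

/-! ### `S` of order `1092` -/

theorem Cond.last (C : Cond x t w) (S : Subgroup G) [hSn : S.Normal] (hx : x ∈ S) (ht : t ∈ S) (hw : w ∈ S)
    (hc : Nat.card S = 1092) : Nat.card G ≤ 2184 := by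
  have hf13 : Fact (Nat.Prime 13) := ⟨by norm_num⟩
  have hx13 := C.orderOf_x
  -- the centralizer of `x` has order `13`
  have h13 : Nat.card (centralizer ({x} : Set G)) = 13 := by
    rcases C.card_cent with h | h
    · exact h
    exfalso
    let z := w * x * w⁻¹
    have hz13 : z ^ 13 = 1 := by
      show (w * x * w⁻¹) ^ 13 = 1
      rw [conj_pow, C.x13]; group
    have hz1 : orderOf z = 13 := orderOf_eq_prime hz13 (fun h1 => C.x1 (by
      calc x = w⁻¹ * z * w := by show x = w⁻¹ * (w * x * w⁻¹) * w; group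
        _ = 1 := by rw [h1]; group))
    let f : centralizer ({x} : Set G) × Fin 12 → S := fun p =>
      ⟨(p.1 : G) * z ^ (p.2.1 + 1) * (p.1 : G)⁻¹,
        hSn.conj_mem _ (pow_mem (mul_mem (mul_mem hw hx) (inv_mem hw)) _) _⟩
    have hf : Function.Injective f := by
      rintro ⟨a, i⟩ ⟨b, j⟩ hab
      have h1 : (a : G) * z ^ (i.1 + 1) * (a : G)⁻¹ = b * z ^ (j.1 + 1) * (b : G)⁻¹ := congrArg Subtype.val hab
      set g := (b : G)⁻¹ * a with hg
      have hgx : g * x = x * g := mem_centralizer_singleton_iff.1 (mul_mem (inv_mem b.2) a.2)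
      have h2 : g * z ^ (i.1 + 1) * g⁻¹ = z ^ (j.1 + 1) := by
        rw [hg]
        calc (b : G)⁻¹ * a * z ^ (i.1 + 1) * ((b : G)⁻¹ * a)⁻¹ =
            (b : G)⁻¹ * (a * z ^ (i.1 + 1) * (a : G)⁻¹) * b := by group
          _ = z ^ (j.1 + 1) := by rw [h1]; group
      -- `z` is a power of `z ^ (i + 1)`
      obtain ⟨k, hk⟩ : ∃ k : ℕ, z = (z ^ (i.1 + 1)) ^ k := by
        have hcop : Nat.Coprime (i.1 + 1) 13 := by
          rw [Nat.coprime_comm, Nat.Prime.coprime_iff_not_dvd (by norm_num)]
          intro hd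
          have := Nat.le_of_dvd (by omega) hd
          have := i.2
          omega
        obtain ⟨k, hk⟩ := Nat.exists_mul_mod_eq_one_of_coprime hcop (by norm_num)
        refine ⟨k, ?_⟩
        rw [← pow_mul, ← pow_mod_orderOf, hz1, hk.2, pow_one]
      have h3 : g * z * g⁻¹ = z ^ ((j.1 + 1) * k) := by
        nth_rewrite 1 [hk]
        rw [← conj_pow, h2, ← pow_mul]
      have h4 := comm_of_norm hz13 (C.pow hgx) h3
      have h5 : g * w = w * g := by
        have h6 : w ∈ centralizer ({g} : Set G) :=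
          C.w_mem (mem_centralizer_singleton_iff.2 hgx.symm) (mem_centralizer_singleton_iff.2 h4.symm)
        exact (mem_centralizer_singleton_iff.1 h6).symm
      have h6 := C.cent hgx h5
      have h7 : a = b := Subtype.ext (inv_mul_eq_one.1 h6).symm
      have h8 : z ^ (i.1 + 1) = z ^ (j.1 + 1) := by
        rw [← h2, h6]; group
      have h9 : i = j := by
        rw [pow_inj_mod, hz1, Nat.mod_eq_of_lt (by omega), Nat.mod_eq_of_lt (by omega)] at h8
        exact Fin.ext (by omega)
      rw [h7, h9]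
    have h1 := Nat.card_le_card_of_injective f hf
    rw [Nat.card_prod, h, hc, Nat.card_eq_fintype_card, Fintype.card_fin] at h1
    omega
  have hPx := Cond.cent_eq h13 hx13
  obtain ⟨e, he, h6, hN⟩ := C.card_norm
  set N := normalizer (centralizer ({x} : Set G) : Set G) with hNdef
  have hN156 : Nat.card N ≤ 156 := by
    rw [hN, h13]
    rcases he with ⟨he, -⟩ | ⟨-, he⟩
    · have := Nat.le_of_dvd (by norm_num) he
      omega
    · rw [h13] at he
      omega
  -- Frattini
  have hsup : N ⊔ S = ⊤ := by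
    have hPS : zpowers x ≤ S := zpowers_le.2 hx
    have hp : IsPGroup 13 ((zpowers x).subgroupOf S) := by
      apply IsPGroup.of_card_dvd_pow (n := 1)
      rw [Nat.card_congr (subgroupOfEquivOfLe hPS).toEquiv, Nat.card_zpowers, pow_one, hx13]
    have hi : ¬ 13 ∣ ((zpowers x).subgroupOf S).index := by
      have h1 := ((zpowers x).subgroupOf S).card_mul_index
      rw [Nat.card_congr (subgroupOfEquivOfLe hPS).toEquiv, Nat.card_zpowers, hx13, hc] at h1
      have h2 : ((zpowers x).subgroupOf S).index = 84 := by omega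
      rw [h2]; decide
    let P : Sylow 13 S := hp.toSylow hi
    have h1 := Sylow.normalizer_sup_eq_top P
    have h2 : (P : Subgroup S).map S.subtype = centralizer ({x} : Set G) := by
      show ((zpowers x).subgroupOf S).map S.subtype = _
      rw [subgroupOf_map_subtype, inf_of_le_left hPS, hPx]
    have h3 : normalizer (((P : Subgroup S).map S.subtype : Subgroup G) : Set G) = N := by rw [h2]
    rw [← h3]
    exact h1
  have h78 : 78 ≤ Nat.card (S ⊓ N : Subgroup G) := by
    have h1 : x ∈ S ⊓ N := mem_inf.2 ⟨hx, le_normalizer (mem_centralizer_singleton_iff.2 rfl)⟩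
    have h2 : t ∈ S ⊓ N := by
      refine mem_inf.2 ⟨ht, ?_⟩
      rw [hNdef, hPx, mem_normalizer_iff_cj]
      have h3 : cj t (zpowers x) = zpowers (x ^ 4) := by
        unfold cj
        rw [MonoidHom.map_zpowers]
        show zpowers (t * x * t⁻¹) = _
        rw [C.tx]
      rw [h3]
      apply le_antisymm
      · rw [zpowers_le]; exact pow_mem (mem_zpowers x) 4
      · rw [zpowers_le]
        have h1 : x = (x ^ 4) ^ 10 := by
          rw [← pow_mul]
          calc x = (x ^ 13) ^ 3 * x := by rw [C.x13, one_pow, one_mul]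
            _ = x ^ (4 * 10) := by rw [← pow_mul, ← pow_succ]
        have h5 : (x ^ 4) ^ 10 ∈ zpowers (x ^ 4) := pow_mem (mem_zpowers _) 10
        rwa [← h1] at h5
    have h3 : 13 ∣ Nat.card (S ⊓ N : Subgroup G) := by
      rw [← hx13]
      exact Subgroup.orderOf_dvd_natCard _ h1
    have h4 : 6 ∣ Nat.card (S ⊓ N : Subgroup G) := by
      rw [← C.orderOf_t]
      exact Subgroup.orderOf_dvd_natCard _ h2
    have h5 : 13 * 6 ∣ Nat.card (S ⊓ N : Subgroup G) := Nat.Coprime.mul_dvd_of_dvd_of_dvd (by norm_num) h3 h4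
    exact Nat.le_of_dvd Nat.card_pos h5
  -- counting
  have h1 : S.index = S.relIndex N := by
    have := relIndex_sup_right N S
    rw [hsup, relIndex_top_right] at this
    exact this
  have h2 := card_mul_index S
  have h3 : S.relIndex N * Nat.card (S ⊓ N : Subgroup G) = Nat.card N := by
    have h4 := (S.subgroupOf N).card_mul_index
    have h5 : Nat.card (S.subgroupOf N) = Nat.card (S ⊓ N : Subgroup G) := by
      rw [← subgroupOf_map_subtype]
      exact Nat.card_congr (equivMapOfInjective _ N.subtype N.subtype_injective).toEquiv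
    rw [h5] at h4
    rw [mul_comm]; exact h4
  rw [← h1] at h3
  rw [hc] at h2
  have h4 : S.index ≤ 2 := by
    by_contra hcon
    have : 3 * 78 ≤ S.index * Nat.card (S ⊓ N : Subgroup G) := Nat.mul_le_mul (by omega) h78
    omega
  omega

end Cfsg.Agent.H762.ReeEight
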