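import Cfsg.Agent.H762.ReeEightC
import Cfsg.Agent.GpExc.Rank
import Cfsg.Agent.OrdDiv.Main
import Cfsg.Agent.Schreier.Cases

/-!
helper762 (task A of S5936): `PGL₂(13)` is a maximal subgroup of `²F₄(8)` (`isCoatom_of`).
-/

set_option autoImplicit false

namespace Cfsg.Agent.H762.ReeEight

open Subgroup Cfsg.Agent.H857.Ree8 Cfsg.Agent.Nodes.Reps

/-! ### `G₂(4)` -/

section GTwo

open Cfsg Cfsg.Lie Matrix
open Cfsg.Agent.ChevalleyStructure Cfsg.Agent.ChevalleyStructure.Elts
open Cfsg.Agent.ChevalleyStructure.SL2Rep Cfsg.Agent.ChevalleyStructure.SL2Hom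
open Cfsg.Agent.ETable.Exc Cfsg.Agent.GpExc

variable {F : Type*} [Field F]

theorem el_three (h2 : (2 : F) = 0) : (up (1 : F) * lo (1 : F)) ^ 3 = 1 ∧ up (1 : F) * lo (1 : F) ≠ 1 := by
  have hc : ((up (1 : F) * lo (1 : F) : SpecialLinearGroup (Fin 2) F) : Matrix (Fin 2) (Fin 2) F) =
      !![1 + 1, 1; 1, 1] := by
    show (!![(1 : F), 1; 0, 1] * !![1, 0; 1, 1] : Matrix (Fin 2) (Fin 2) F) = _
    ext i j
    fin_cases i <;> fin_cases j <;> simp [Matrix.mul_apply, Fin.sum_univ_two]
  refine ⟨?_, fun h => ?_⟩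
  · apply Subtype.ext
    rw [Matrix.SpecialLinearGroup.coe_pow, hc, pow_succ, pow_two]
    ext i j
    fin_cases i <;> fin_cases j <;> simp [Matrix.mul_apply, Fin.sum_univ_two]
    · linear_combination 6 * h2
    · linear_combination 4 * h2
    · linear_combination 4 * h2
    · linear_combination 2 * h2
  · rw [h] at hc
    have h1 := congrFun (congrFun hc 0) 1
    simp at h1

theorem el_five (h2 : (2 : F) = 0) {t : F} (ht : t ^ 2 + t + 1 = 0) :
    (up (1 : F) * lo t) ^ 5 = 1 ∧ up (1 : F) * lo t ≠ 1 := by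
  have hc : ((up (1 : F) * lo t : SpecialLinearGroup (Fin 2) F) : Matrix (Fin 2) (Fin 2) F) =
      !![1 + t, 1; t, 1] := by
    show (!![(1 : F), 1; 0, 1] * !![1, 0; t, 1] : Matrix (Fin 2) (Fin 2) F) = _
    ext i j
    fin_cases i <;> fin_cases j <;> simp [Matrix.mul_apply, Fin.sum_univ_two]
  refine ⟨?_, fun h => ?_⟩
  · -- `M ^ 2 = t M + 1`
    set M : Matrix (Fin 2) (Fin 2) F := !![1 + t, 1; t, 1] with hM
    have hm2 : M * M = t • M + 1 := by
      rw [hM]
      ext i j
      fin_cases i <;> fin_cases j <;> simp [Matrix.mul_apply, Fin.sum_univ_two]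
      · linear_combination (t) * h2
      · linear_combination h2
      · linear_combination t * h2
    apply Subtype.ext
    rw [Matrix.SpecialLinearGroup.coe_pow, hc]
    have hm4 : M * M * (M * M) = M + t • (1 : Matrix (Fin 2) (Fin 2) F) := by
      rw [hm2, add_mul, mul_add, one_mul, smul_mul_smul_comm, hm2, mul_one]
      have e : (t * t) • (t • M + (1 : Matrix (Fin 2) (Fin 2) F)) + t • M + (t • M + 1) =
          (t * t * t + t + t) • M + (t * t + 1) • (1 : Matrix (Fin 2) (Fin 2) F) := by
        rw [smul_add, smul_smul]; module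
      rw [e]
      have e1 : t * t * t + t + t = 1 := by linear_combination (t - 1) * ht + t * h2
      have e2 : t * t + 1 = t := by linear_combination ht - t * h2
      rw [e1, e2, one_smul]
    have e5 : M ^ 5 = M * M * (M * M) * M := by
      rw [pow_succ, pow_succ, pow_succ, pow_two]; noncomm_ring
    rw [e5, hm4, add_mul, smul_mul_assoc, one_mul, hm2]
    have e : t • M + (1 : Matrix (Fin 2) (Fin 2) F) + t • M = (t + t) • M + 1 := by module
    rw [e]
    have e1 : t + t = 0 := by linear_combination t * h2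
    rw [e1, zero_smul, zero_add]
    rfl
  · rw [h] at hc
    have h1 := congrFun (congrFun hc 0) 1
    simp at h1

theorem hG2 : InList chevG2 := by simp [InList]

/-- `G₂(4)` has an involution commuting with elements of order three and five -/
theorem g2_four {F : Type} [Field F] [Fintype F] (hF : Fintype.card F = 4) :
    ∃ a b c : ↥(chevG2.group F), orderOf a = 2 ∧ orderOf b = 3 ∧ orderOf c = 5 ∧ a * b = b * a ∧ a * c = c * a := by
  have h2 : (2 : F) = 0 := by
    have hcast : ((Fintype.card F : ℕ) : F) = 0 := Nat.cast_card_eq_zero F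
    rw [hF] at hcast
    have h4 : (2 : F) * 2 = 0 := by
      have : ((4 : ℕ) : F) = 2 * 2 := by norm_num
      rw [← this]; exact hcast
    exact mul_self_eq_zero.1 h4
  obtain ⟨t, ht⟩ : ∃ t : F, t ^ 2 + t + 1 = 0 := by
    have h1 : ∃ t : F, t ≠ 0 ∧ t ≠ 1 := by
      by_contra hcon
      push Not at hcon
      have h3 : Fintype.card F ≤ 2 := by
        classical
        have : (Finset.univ : Finset F) ⊆ {0, 1} := by
          intro t _
          by_cases h0 : t = 0
          · simp [h0]
          · simp [hcon t h0]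
        exact (Finset.card_le_card this).trans Finset.card_le_two
      omega
    obtain ⟨t, h0, h1⟩ := h1
    refine ⟨t, ?_⟩
    have h3 : t ^ 3 = 1 := by
      have := FiniteField.pow_card_sub_one_eq_one t h0
      rwa [hF] at this
    have h4 : (t - 1) * (t ^ 2 + t + 1) = 0 := by linear_combination h3
    exact (mul_eq_zero.1 h4).resolve_left (sub_ne_zero.2 h1)
  have l0 : 0 < chevG2.nroots := by decide +kernel
  have l4 : 4 < chevG2.nroots := by decide +kernel
  have hso : SO chevG2 0 4 := by decide +kernel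
  have hu : ∀ (r : ℕ) (t : F), xG hG2 r ((RingHom.id F) t) ∈ chevG2.group F := fun r t => xG_mem_group hG2 r _
  let f := Rank.psi hG2 l0 (RingHom.id F) (H := chevG2.group F) (hu 0) (hu _)
  let g := Rank.psi hG2 l4 (RingHom.id F) (H := chevG2.group F) (hu 4) (hu _)
  have hf : Function.Injective f := Rank.psi_injective hG2 l0 (RingHom.id F) (hu 0) (hu _) h2
  have hg : Function.Injective g := Rank.psi_injective hG2 l4 (RingHom.id F) (hu 4) (hu _) h2
  have hfg : ∀ a b, f a * g b = g b * f a := fun a b =>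
    (Rank.psi_comm hG2 l0 (RingHom.id F) (hu 0) (hu _) l4 (hu 4) (hu _) hso a b).eq
  refine ⟨f (up 1), g (up 1 * lo 1), g (up 1 * lo t), ?_, ?_, ?_, hfg _ _, hfg _ _⟩
  · rw [orderOf_injective f hf]
    refine orderOf_eq_prime ?_ ?_
    · apply Subtype.ext
      rw [Matrix.SpecialLinearGroup.coe_pow, pow_two]
      show (!![(1 : F), 1; 0, 1] * !![(1 : F), 1; 0, 1] : Matrix (Fin 2) (Fin 2) F) = 1
      ext i j
      fin_cases i <;> fin_cases j <;> simp [Matrix.mul_apply, Fin.sum_univ_two]
      linear_combination h2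
    · intro h
      have h1 := congrArg (fun m : SpecialLinearGroup (Fin 2) F => (m : Matrix (Fin 2) (Fin 2) F) 0 1) h
      have h3 : (1 : F) = 0 := h1
      exact one_ne_zero h3
  · rw [orderOf_injective g hg]
    have : Fact (Nat.Prime 3) := ⟨by norm_num⟩
    exact orderOf_eq_prime (el_three h2).1 (el_three h2).2
  · rw [orderOf_injective g hg]
    have : Fact (Nat.Prime 5) := ⟨by norm_num⟩
    exact orderOf_eq_prime (el_five h2 ht).1 (el_five h2 ht).2

end GTwo

/-! ### the index of `⟨x, w x w⁻¹⟩` -/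

theorem HH_card {G : Type*} [Group G] [Finite G] {x s w : G} (hR : Rel x s w)
    (hH : Nat.card (closure ({x, s, w} : Set G)) = 2184) : 1092 ∣ Nat.card (HH x w) := by
  have h2 := Rel2.of_rel hR
  have hxH := x_mem_HH (x := x) (w := w)
  have hwH := w_mem_HH h2
  have htH := t_mem_HH h2
  have hle : HH x w ≤ closure ({x, s, w} : Set G) := by
    refine (closure_le _).2 ?_
    have hx : x ∈ closure ({x, s, w} : Set G) := subset_closure (by simp)
    have hw : w ∈ closure ({x, s, w} : Set G) := subset_closure (by simp)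
    rintro _ (rfl | rfl)
    · exact hx
    · exact mul_mem (mul_mem hw hx) (inv_mem hw)
  -- `s` normalises
  have hs : ∀ g ∈ HH x w, s * g * s⁻¹ ∈ HH x w := by
    have h3 : HH x w ≤ (HH x w).comap (MulAut.conj s).toMonoidHom := by
      refine (closure_le _).2 ?_
      intro g hg
      simp only [Set.mem_insert_iff, Set.mem_singleton_iff] at hg
      rcases hg with hg | hg <;> rw [hg]
      · show s * x * s⁻¹ ∈ HH x w
        rw [hR.sx]; exact pow_mem hxH 2
      · show s * (w * x * w⁻¹) * s⁻¹ ∈ HH x w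
        have h4 : w * s⁻¹ = s * w := by
          calc w * s⁻¹ = w * (w * s * w⁻¹) := by rw [hR.ws]
            _ = (w * w) * s * w⁻¹ := by group
            _ = s * w := by rw [hR.w2, one_mul, h2.inv_w]
        have h5 : s⁻¹ * x * s = x ^ 7 := by
          have h1 : s * x ^ 7 * s⁻¹ = x := by
            calc s * x ^ 7 * s⁻¹ = (s * x * s⁻¹) ^ 7 := by rw [conj_pow]
              _ = x ^ 13 * x := by rw [hR.sx, ← pow_mul, ← pow_succ]
              _ = x := by rw [hR.x13, one_mul]
          calc s⁻¹ * x * s = s⁻¹ * (s * x ^ 7 * s⁻¹) * s := by rw [h1]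
            _ = x ^ 7 := by group
        have e : s * (w * x * w⁻¹) * s⁻¹ = w * x ^ 7 * w⁻¹ := by
          calc s * (w * x * w⁻¹) * s⁻¹ = (s * w) * x * (s * w)⁻¹ := by group
            _ = w * (s⁻¹ * x * s) * w⁻¹ := by rw [← h4]; group
            _ = w * x ^ 7 * w⁻¹ := by rw [h5]
        rw [e]
        exact mul_mem (mul_mem hwH (pow_mem hxH 7)) (inv_mem hwH)
    exact fun g hg => h3 hg
  have hss : s * s ∈ HH x w := by rw [← pow_two]; exact htH
  have hsi : s⁻¹ * s⁻¹ ∈ HH x w := by
    have := inv_mem hss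
    rwa [mul_inv_rev] at this
  have hs' : ∀ g ∈ HH x w, s⁻¹ * g * s ∈ HH x w := by
    intro g hg
    have h3 : s⁻¹ * s⁻¹ * (s * g * s⁻¹) * (s * s) ∈ HH x w := mul_mem (mul_mem hsi (hs g hg)) hss
    have e : s⁻¹ * s⁻¹ * (s * g * s⁻¹) * (s * s) = s⁻¹ * g * s := by group
    rwa [e] at h3
  let K : Subgroup G :=
    { carrier := {g | g ∈ HH x w ∨ g * s⁻¹ ∈ HH x w}
      one_mem' := Or.inl (one_mem _)
      mul_mem' := by
        rintro a b (ha | ha) (hb | hb)
        · exact Or.inl (mul_mem ha hb)
        · right; rw [mul_assoc]; exact mul_mem ha hb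
        · right
          have e : a * b * s⁻¹ = (a * s⁻¹) * (s * b * s⁻¹) := by group
          rw [e]; exact mul_mem ha (hs b hb)
        · left
          have e : a * b = (a * s⁻¹) * (s * (b * s⁻¹) * s⁻¹) * (s * s) := by group
          rw [e]; exact mul_mem (mul_mem ha (hs _ hb)) hss
      inv_mem' := by
        rintro a (ha | ha)
        · exact Or.inl (inv_mem ha)
        · right
          have e : a⁻¹ * s⁻¹ = (s⁻¹ * (a * s⁻¹)⁻¹ * s) * (s⁻¹ * s⁻¹) := by group
          rw [e]; exact mul_mem (hs' _ (inv_mem ha)) hsi }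
  have hK : closure ({x, s, w} : Set G) ≤ K := by
    refine (closure_le _).2 ?_
    rintro _ (rfl | rfl | rfl)
    · exact Or.inl hxH
    · right; rw [mul_inv_cancel]; exact one_mem _
    · exact Or.inl hwH
  have hcard : Nat.card (closure ({x, s, w} : Set G)) ≤ Nat.card (HH x w) * 2 := by
    classical
    let f : closure ({x, s, w} : Set G) → HH x w × Bool := fun g =>
      if h : (g : G) ∈ HH x w then (⟨g, h⟩, true)
      else (⟨(g : G) * s⁻¹, (hK g.2).resolve_left h⟩, false)
    have hf : Function.Injective f := by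
      intro a b hab
      simp only [f] at hab
      split_ifs at hab with ha hb hb <;> simp only [Prod.mk.injEq, Subtype.mk.injEq] at hab
      · exact Subtype.ext hab.1
      · exact absurd hab.2 (by decide)
      · exact absurd hab.2 (by decide)
      · exact Subtype.ext (mul_right_cancel hab.1)
    have h3 := Nat.card_le_card_of_injective f hf
    rw [Nat.card_prod, Nat.card_eq_fintype_card (α := Bool), Fintype.card_bool] at h3
    exact h3
  obtain ⟨k, hk⟩ := card_dvd_of_le hle
  rw [hH] at hk hcard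
  have hpos : 0 < Nat.card (HH x w) := Nat.card_pos
  have hk2 : k ≤ 2 := by
    by_contra hcon
    have : Nat.card (HH x w) * 3 ≤ Nat.card (HH x w) * k := Nat.mul_le_mul_left _ (by omega)
    omega
  interval_cases k
  · omega
  · exact ⟨2, by omega⟩
  · exact ⟨1, by omega⟩

/-! ### the theorem -/

open Cfsg Cfsg.Agent.OrdDiv Cfsg.Agent.Schreier.Basic Cfsg.Agent.Schreier.Cases

def l0 : List (ℕ × ℕ) := [(2, 36), (3, 5), (5, 2), (7, 2), (13, 2), (19, 1), (37, 1), (109, 1)]

theorem cands_eq : (cands l0 NN8).filter (fun g => Pn (ordN g)) = [.psl 2 13, .g2 4, .tf4 8] := by decide +kernel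

universe u

theorem isCoatom_of {G : Type u} [Group G] [Finite G]
    (hKn : ∀ (X : Type u) [Group X] [Finite X] [IsSimpleGroup X], IsKnownSimple' X)
    (hSch : SchFor.{u} @IsKnownSimple') (TT : OrderTable.{u})
    (hcard : Nat.card G = 2 ^ 36 * 3 ^ 5 * 5 ^ 2 * 7 ^ 2 * 13 ^ 2 * 19 * 37 * 109)
    {x s w : G} (hR : Rel x s w) (hH : Nat.card (closure ({x, s, w} : Set G)) = 2184)
    (hCx : Nat.card (centralizer ({x} : Set G)) = 13 ^ 2)
    (hN : Nat.card (normalizer (centralizer ({x} : Set G) : Set G)) ∣ 13 ^ 2 * 96)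
    (hrat : ∀ y : G, orderOf y = 13 → IsConj y (y ^ 4) → IsConj x y)
    (hv : ¬ 13 ∣ Nat.card (centralizer ({s ^ 6} : Set G)))
    (h2 : ∀ N : Subgroup G, (∀ a ∈ N, a * a = 1) → (∀ a ∈ N, x * a * x⁻¹ ∈ N) → (∀ a ∈ N, s * a * s⁻¹ ∈ N) → N = ⊥)
    (h35 : ∀ t a b : G, orderOf t = 2 → orderOf a = 3 → orderOf b = 5 → t * a = a * t → t * b ≠ b * t) :
    IsCoatom (closure ({x, s, w} : Set G)) := by
  have hf13 : Fact (Nat.Prime 13) := ⟨by norm_num⟩
  have C : Cond x (s ^ 2) w :=
    { Rel2.of_rel hR with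
      cx := by rw [hCx]; exact dvd_of_eq (by norm_num)
      cv := by
        intro g hg h13
        by_contra hg1
        apply hv
        have ho : orderOf g = 13 := orderOf_eq_prime h13 hg1
        rw [← ho]
        refine Subgroup.orderOf_dvd_natCard _ (mem_centralizer_singleton_iff.2 ?_)
        rw [← pow_mul] at hg
        exact hg
      rat := by
        intro y hy hc
        obtain ⟨c, hc⟩ := isConj_iff.1 (hrat y hy hc)
        have h3 : centralizer ({y} : Set G) = cj c (centralizer ({x} : Set G)) := by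
          ext g
          rw [mem_cj, mem_centralizer_singleton_iff, mem_centralizer_singleton_iff, ← hc]
          constructor
          · intro h
            calc c⁻¹ * g * c * x = c⁻¹ * (g * (c * x * c⁻¹)) * c := by group
              _ = c⁻¹ * (c * x * c⁻¹ * g) * c := by rw [h]
              _ = x * (c⁻¹ * g * c) := by group
          · intro h
            calc g * (c * x * c⁻¹) = c * (c⁻¹ * g * c * x) * c⁻¹ := by group
              _ = c * (x * (c⁻¹ * g * c)) * c⁻¹ := by rw [h]
              _ = c * x * c⁻¹ * g := by group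
        have h4 : Nat.card (cj c (centralizer ({x} : Set G))) = Nat.card (centralizer ({x} : Set G)) :=
          (Nat.card_congr ((centralizer ({x} : Set G)).equivMapOfInjective _ (MulAut.conj c).injective).toEquiv).symm
        rw [h3, h4, hCx]
        exact dvd_of_eq (by norm_num)
      c3 := by rw [hcard]; norm_num
      cn := fun _ => hN }
  constructor
  · intro h
    have h3 := hH
    rw [h, card_top, hcard] at h3
    norm_num at h3
  intro L hHL
  by_contra hLt
  have hxH : x ∈ closure ({x, s, w} : Set G) := subset_closure (by simp)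
  have hsH : s ∈ closure ({x, s, w} : Set G) := subset_closure (by simp)
  have hwH : w ∈ closure ({x, s, w} : Set G) := subset_closure (by simp)
  have hxL := hHL.le hxH
  have hsL := hHL.le hsH
  have hwL := hHL.le hwH
  have CL := C.restrict hxL (pow_mem hsL 2) hwL
  have hLG : Nat.card L ∣ NN8 := by
    have := card_subgroup_dvd_card L
    rw [hcard] at this
    exact this
  have hSL : ∀ T : Subgroup L, IsSimpleGroup T → (∀ z ∈ T, (∀ y ∈ T, Commute z y) → z = 1) → Sch T := by
    intro T hT hcen
    refine hSch T ?_ (hKn T)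
    intro hab
    obtain ⟨a, ha⟩ := exists_ne (1 : T)
    exact ha (Subtype.ext (hcen a a.2 fun y hy => congrArg Subtype.val (hab.is_comm.comm a ⟨y, hy⟩)))
  obtain ⟨S, hSn, hSs, hxS, hwS, htS, hcS⟩ := CL.main hLG (fun N hNn hN2 => by
    have h3 : N.map L.subtype = ⊥ := by
      apply h2
      · rintro _ ⟨a, ha, rfl⟩
        exact congrArg Subtype.val (hN2 a ha)
      · rintro _ ⟨a, ha, rfl⟩
        exact ⟨_, hNn.conj_mem a ha ⟨x, hxL⟩, rfl⟩
      · rintro _ ⟨a, ha, rfl⟩
        exact ⟨_, hNn.conj_mem a ha ⟨s, hsL⟩, rfl⟩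
    rwa [Subgroup.map_eq_bot_iff_of_injective _ L.subtype_injective] at h3) hSL
  have hcenS : ∀ z ∈ S, (∀ y ∈ S, Commute z y) → z = 1 := by
    intro z _ h
    have h3 : z ∈ centralizer (S : Set L) := mem_centralizer_iff.2 fun y hy => (h y hy).eq.symm
    rw [hcS] at h3
    exact mem_bot.1 h3
  have hna : ¬ ∀ a b : S, a * b = b * a := by
    intro hab
    obtain ⟨a, ha⟩ := exists_ne (1 : S)
    exact ha (Subtype.ext (hcenS a a.2 fun y hy => congrArg Subtype.val (hab a ⟨y, hy⟩)))
  have hSL2 : Nat.card S ∣ Nat.card L := card_subgroup_dvd_card S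
  -- `1092` divides the order of `S`
  have h1092 : 1092 ∣ Nat.card S := by
    refine (HH_card hR hH).trans ?_
    have h3 : HH x w ≤ S.map L.subtype := by
      refine (closure_le _).2 ?_
      rintro _ (rfl | rfl)
      · exact ⟨_, hxS, rfl⟩
      · exact ⟨_, mul_mem (mul_mem hwS hxS) (inv_mem hwS), rfl⟩
    have h4 := card_dvd_of_le h3
    rwa [← Nat.card_congr (S.equivMapOfInjective _ L.subtype_injective).toEquiv] at h4
  have CS := CL.restrict hxS htS hwS
  have hP := CS.count h1092
  obtain ⟨g, hg, hr, hgc⟩ := exists_good TT (hKn S) hna (l := l0) (N := NN8) (by decide +kernel) (hSL2.trans hLG)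
  have hg2 : g ∈ (cands l0 NN8).filter (fun g => Pn (ordN g)) :=
    List.mem_filter.2 ⟨hg, by rw [← hgc]; exact hP⟩
  rw [cands_eq] at hg2
  simp only [List.mem_cons, List.not_mem_nil, or_false] at hg2
  rcases hg2 with rfl | rfl | rfl
  · have h3 : ordN (.psl 2 13) = 1092 := by decide +kernel
    rw [h3] at hgc
    have h4 := CL.last S hxS htS hwS hgc
    have h5 : closure ({x, s, w} : Set G) = L := Subgroup.eq_of_le_of_card_ge hHL.le (by rw [hH]; exact h4)
    exact hHL.ne h5
  · obtain ⟨F, _, _, hF, ⟨e⟩⟩ := hr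
    obtain ⟨a, b, c, ha, hb, hc, hab, hac⟩ := g2_four hF
    let f : ↥(Lie.chevG2.group F) →* G := (L.subtype.comp S.subtype).comp e.symm.toMonoidHom
    have hf : Function.Injective f :=
      (L.subtype_injective.comp S.subtype_injective).comp e.symm.injective
    refine h35 (f a) (f b) (f c) ?_ ?_ ?_ ?_ ?_
    · rw [orderOf_injective f hf, ha]
    · rw [orderOf_injective f hf, hb]
    · rw [orderOf_injective f hf, hc]
    · rw [← map_mul, hab, map_mul]
    · rw [← map_mul, hac, map_mul]
  · have h3 : ordN (.tf4 8) = NN8 := by decide +kernel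
    rw [h3] at hgc
    rw [hgc] at hSL2
    apply hLt
    apply Subgroup.eq_top_of_card_eq
    rw [hcard]
    exact Nat.dvd_antisymm hLG hSL2

end Cfsg.Agent.H762.ReeEight
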