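import Cfsg.Agent.H762.TwFLoc

/-!
helper762: `Q` is transitive on the coset `y Zc 2`, `y ∈ Q2 ∖ Zc 2`, in `²F₄(q)`.
-/

set_option autoImplicit false

namespace Cfsg.Agent.H762.Loc

open Cfsg.Agent.SplitTwo Cfsg.Agent.SplitTwo.ZS Cfsg.Agent.TitsThree.RankTwoZ Cfsg.Agent.SplitTwo.RootSysZ
open Cfsg.Agent.KFacts.TwF4 Cfsg.Agent.KFacts.TwF4.Arc Cfsg.Agent.KFacts.TwF4.Irr
open Cfsg.Agent.KFacts.TwF4.Inv Cfsg.Agent.KFacts.TwF4.Layers Cfsg.Agent.CpAutTwF Cfsg.Agent.H762.AutPL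
open Subgroup

universe u

variable {F : Type*} [Field F] {σ : F →+* F} {G : Type u} [Group G] (S : Full σ G)

theorem step {g x zx y zy : G} (hx : g * x = x * g * zx) (hy : g * y = y * g * zy) (hzx : zx ∈ S.Zc 2)
    (hzy : zy ∈ S.Zc 2) (hyP : y ∈ S.PL) : g * (x * y) = x * y * g * (zy * zx) := by
  have h1 : y * zx = zx * y := S.comm_PL hyP hzx
  calc g * (x * y) = x * g * (zx * y) := by rw [← mul_assoc, hx]; group
    _ = x * (g * y) * zx := by rw [← h1]; group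
    _ = x * y * g * (zy * zx) := by rw [hy]; group

theorem five {g a b c d e za zb zc zd ze : G} (ha : g * a = a * g * za) (hb : g * b = b * g * zb)
    (hc : g * c = c * g * zc) (hd : g * d = d * g * zd) (he : g * e = e * g * ze) (hza : za ∈ S.Zc 2)
    (hzb : zb ∈ S.Zc 2) (hzc : zc ∈ S.Zc 2) (hzd : zd ∈ S.Zc 2) (hze : ze ∈ S.Zc 2) (hbP : b ∈ S.PL) (hcP : c ∈ S.PL)
    (hdP : d ∈ S.PL) (heP : e ∈ S.PL) :
    g * (a * b * c * d * e) = a * b * c * d * e * g * (ze * (zd * (zc * (zb * za)))) := by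
  have h1 := step S ha hb hza hzb hbP
  have m1 := mul_mem hzb hza
  have h2 := step S h1 hc m1 hzc hcP
  have m2 := mul_mem hzc m1
  have h3 := step S h2 hd m2 hzd hdP
  have m3 := mul_mem hzd m2
  exact step S h3 he m3 hze heP

/-- `Q` moves `y ∈ Q2 ∖ Zc 2` to every element of `y Zc 2` -/
theorem moveQ {y : G} (hy : y ∈ S.Q2) (hyn : y ∉ S.Zc 2) (v : F) : ∃ g ∈ S.Q, g * y * g⁻¹ = y * S.e 2 0 v := by
  obtain ⟨u, s, z, t, w, rfl⟩ := (mem_Q2 S).1 hy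
  have z1 : (1 : G) ∈ S.Zc 2 := one_mem _
  have zv : ∀ v, S.e 2 0 v ∈ S.Zc 2 := fun v => ⟨v, rfl⟩
  have hPL : ∀ {x}, x ∈ S.Q2 → x ∈ S.PL := fun hx => AutPL.Q_PL S (Layers.Q2_le_Q S hx)
  have p1 := hPL (S.q2_1 u)
  have p2 := hPL (S.q2_2 s)
  have p3 := hPL (S.q2_3 z)
  have p4 := hPL (S.q2_4 t)
  have p5 := hPL (S.q2_5 w)
  have hyP := hPL hy
  have conc : ∀ {g : G}, g ∈ S.Q → g * q2 S u s z t w = q2 S u s z t w * g * S.e 2 0 v →
      ∃ g ∈ S.Q, g * q2 S u s z t w * g⁻¹ = q2 S u s z t w * S.e 2 0 v := by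
    intro g hg h
    refine ⟨g, hg, ?_⟩
    rw [h, mul_assoc (q2 S u s z t w) g, S.comm_PL (AutPL.Q_PL S hg) (zv v)]
    group
  by_cases hw : w = 0
  · by_cases ht : t = 0
    · by_cases hs : s = 0
      · by_cases hu : u = 0
        · exfalso
          apply hyn
          rw [hw, ht, hs, hu]
          refine ⟨z, ?_⟩
          unfold q2
          simp only [S.e_zero, S.o_zero, one_mul, mul_one]
        · -- `o 3 b`, `u b = v`
          refine conc (g := S.o 3 (u⁻¹ * v)) (o3_Q S _) ?_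
          have a1 : S.e 1 0 u * S.o 3 (u⁻¹ * v) = S.o 3 (u⁻¹ * v) * S.e 1 0 u * S.e 2 0 v := by
            have h := S.e_o2 1 0 u (u⁻¹ * v)
            simp only [map_zero, zero_mul, zero_add, S.o_zero, S.e_zero, mul_one] at h
            rw [mul_inv_cancel_left₀ hu] at h
            exact h
          have a1' : S.o 3 (u⁻¹ * v) * S.e 1 0 u = S.e 1 0 u * S.o 3 (u⁻¹ * v) * S.e 2 0 v := by
            rw [a1, mul_assoc, z_sq, mul_one]
          have a2 : S.o 3 (u⁻¹ * v) * S.o 1 s = S.o 1 s * S.o 3 (u⁻¹ * v) * 1 := by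
            rw [mul_one]; exact (S.o_o2 1 s _).symm
          have a3 : S.o 3 (u⁻¹ * v) * S.e 2 0 z = S.e 2 0 z * S.o 3 (u⁻¹ * v) * 1 := by
            rw [mul_one]; exact S.comm_PL (AutPL.Q_PL S (o3_Q S _)) (zv z)
          have a4 : S.o 3 (u⁻¹ * v) * S.o 2 t = S.o 2 t * S.o 3 (u⁻¹ * v) * 1 := by
            rw [mul_one]; exact (S.o_o1 2 t _).symm
          have a5 : S.o 3 (u⁻¹ * v) * S.e 3 0 w = S.e 3 0 w * S.o 3 (u⁻¹ * v) * 1 := by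
            rw [mul_one]; exact (S.e_o0 3 0 w _).symm
          have h := five S a1' a2 a3 a4 a5 (zv v) z1 z1 z1 z1 p2 p3 p4 p5
          simp only [one_mul, mul_one] at h
          exact h
      · -- `e 3 q 0`, `s q = v`
        refine conc (g := S.e 3 (s⁻¹ * v) 0) (e3_Q S _ _) ?_
        have a1 : S.e 3 (s⁻¹ * v) 0 * S.e 1 0 u = S.e 1 0 u * S.e 3 (s⁻¹ * v) 0 * 1 := by
          rw [mul_one]; exact (S.e_e2 1 0 u _ _).symm
        have a2 : S.e 3 (s⁻¹ * v) 0 * S.o 1 s = S.o 1 s * S.e 3 (s⁻¹ * v) 0 * S.e 2 0 v := by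
          have h : S.o 1 s * S.e 3 (s⁻¹ * v) 0 = S.e 3 (s⁻¹ * v) 0 * S.o 1 s * S.e 2 0 (s * (s⁻¹ * v)) :=
            S.o_e2 1 s (s⁻¹ * v) 0
          rw [mul_inv_cancel_left₀ hs] at h
          rw [h, mul_assoc, z_sq, mul_one]
        have a3 : S.e 3 (s⁻¹ * v) 0 * S.e 2 0 z = S.e 2 0 z * S.e 3 (s⁻¹ * v) 0 * 1 := by
          rw [mul_one]; exact S.comm_PL (AutPL.Q_PL S (e3_Q S _ _)) (zv z)
        have a4 : S.e 3 (s⁻¹ * v) 0 * S.o 2 t = S.o 2 t * S.e 3 (s⁻¹ * v) 0 * 1 := by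
          rw [mul_one]; exact (S.o_e1 2 t _ _).symm
        have a5 : S.e 3 (s⁻¹ * v) 0 * S.e 3 0 w = S.e 3 0 w * S.e 3 (s⁻¹ * v) 0 * 1 := by
          rw [mul_one, S.e_mul, S.e_mul]
          simp [add_comm]
        have h := five S a1 a2 a3 a4 a5 z1 (zv v) z1 z1 z1 p2 p3 p4 p5
        simp only [one_mul, mul_one] at h
        exact h
    · -- `e 1 p 0`, `p t = v`
      refine conc (g := S.e 1 (v * t⁻¹) 0) (e1_Q S _ _) ?_
      have a1 : S.e 1 (v * t⁻¹) 0 * S.e 1 0 u = S.e 1 0 u * S.e 1 (v * t⁻¹) 0 * 1 := by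
        rw [mul_one, S.e_mul, S.e_mul]
        simp [add_comm]
      have a2 : S.e 1 (v * t⁻¹) 0 * S.o 1 s = S.o 1 s * S.e 1 (v * t⁻¹) 0 * 1 := by
        rw [mul_one]; exact S.e_o0 1 _ _ s
      have a3 : S.e 1 (v * t⁻¹) 0 * S.e 2 0 z = S.e 2 0 z * S.e 1 (v * t⁻¹) 0 * 1 := by
        rw [mul_one]; exact S.comm_PL (AutPL.Q_PL S (e1_Q S _ _)) (zv z)
      have a4 : S.e 1 (v * t⁻¹) 0 * S.o 2 t = S.o 2 t * S.e 1 (v * t⁻¹) 0 * S.e 2 0 v := by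
        have h : S.e 1 (v * t⁻¹) 0 * S.o 2 t = S.o 2 t * S.e 1 (v * t⁻¹) 0 * S.e 2 0 (v * t⁻¹ * t) :=
          S.e_o1 1 (v * t⁻¹) 0 t
        rwa [inv_mul_cancel_right₀ ht] at h
      have a5 : S.e 1 (v * t⁻¹) 0 * S.e 3 0 w = S.e 3 0 w * S.e 1 (v * t⁻¹) 0 * 1 := by
        rw [mul_one]; exact S.e_e2 1 _ _ 0 w
      have h := five S a1 a2 a3 a4 a5 z1 z1 z1 (zv v) z1 p2 p3 p4 p5
      simp only [one_mul, mul_one] at h
      exact h
  · -- `o 0 a`, `a w = v`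
    refine conc (g := S.o 0 (v * w⁻¹)) (o0_Q S _) ?_
    have a1 : S.o 0 (v * w⁻¹) * S.e 1 0 u = S.e 1 0 u * S.o 0 (v * w⁻¹) * 1 := by
      rw [mul_one]; exact S.o_e1 0 _ 0 u
    have a2 : S.o 0 (v * w⁻¹) * S.o 1 s = S.o 1 s * S.o 0 (v * w⁻¹) * 1 := by
      rw [mul_one]; exact S.o_o1 0 _ s
    have a3 : S.o 0 (v * w⁻¹) * S.e 2 0 z = S.e 2 0 z * S.o 0 (v * w⁻¹) * 1 := by
      rw [mul_one]; exact S.comm_PL (AutPL.Q_PL S (o0_Q S _)) (zv z)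
    have a4 : S.o 0 (v * w⁻¹) * S.o 2 t = S.o 2 t * S.o 0 (v * w⁻¹) * 1 := by
      rw [mul_one]; exact S.o_o2 0 _ t
    have a5 : S.o 0 (v * w⁻¹) * S.e 3 0 w = S.e 3 0 w * S.o 0 (v * w⁻¹) * S.e 2 0 v := by
      have h := S.o_e3 0 (v * w⁻¹) 0 w
      simp only [map_zero, mul_zero, zero_add, S.o_zero, S.e_zero, mul_one] at h
      rw [inv_mul_cancel_right₀ hw] at h
      exact h
    have h := five S a1 a2 a3 a4 a5 z1 z1 z1 z1 (zv v) p2 p3 p4 p5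
    simp only [one_mul, mul_one] at h
    exact h

end Cfsg.Agent.H762.Loc
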